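import Groth.Agent.Lib.Lead.GX.Sys
import Groth.Agent.Lib.Lead.QC.Iso
import Groth.Agent.Lib.Helper2.FormalEq3

/-! # Kernels in the category of coherent formal modules: basic lemmas -/

set_option autoImplicit false
universe u
open CategoryTheory Limits Opposite TopologicalSpace AlgebraicGeometry

namespace Groth.Agent.LD.FK
open Groth.Agent.LD.FF Groth.Agent.LD Groth.Agent.LD.GE Groth.Agent.LD.TS Groth.Agent.LD.GX
open Groth.Agent.H2.FormalQ hiding tr

variable {A : Type u} [CommRing A] {X : Scheme.{u}} [X.Over (Spec (CommRingCat.of A))]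
  {I : Ideal A}

lemma killedBy_of_mono {J : Ideal A} {M N : X.Modules} (i : M ⟶ N) [Mono i]
    (h : Formal.KilledBy J N) : Formal.KilledBy J M := fun b hb => by
  rw [← cancel_mono i, zero_comp, ← comp_smulMod, h b hb, comp_zero]

lemma killedBy_of_epi {J : Ideal A} {M N : X.Modules} (p : M ⟶ N) [Epi p]
    (h : Formal.KilledBy J M) : Formal.KilledBy J N := fun b hb => by
  rw [← cancel_epi p, comp_zero, comp_smulMod, h b hb, zero_comp]

lemma killedBy_of_iso {J : Ideal A} {M N : X.Modules} (e : M ≅ N)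
    (h : Formal.KilledBy J M) : Formal.KilledBy J N := killedBy_of_epi e.hom h

/-- the projection to `M / I^0 M` vanishes. -/
lemma modPowπ_zero (M : X.Modules) : Formal.modPowπ I 0 M = 0 := by
  have h := smulMod_π (I ^ 0) M 1 (by rw [pow_zero, Ideal.one_eq_top]; trivial)
  rw [smulMod_one, Category.id_comp] at h
  exact h

/-- a morphism of quasi-coherent modules vanishing on the sections over an affine cover is zero. -/
lemma hom_eq_zero_of_affine_cover {M N : X.Modules} (hM : M.IsQuasicoherent)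
    (hN : N.IsQuasicoherent) (f : M ⟶ N)
    (h : ∀ x : X, ∃ U : X.Opens, IsAffineOpen U ∧ x ∈ U ∧ ∀ s : Γ(M, U), f.app U s = 0) :
    f = 0 := by
  haveI := hM
  haveI : (kernel f).IsQuasicoherent := QC.qc_kernel f hM hN
  haveI : IsIso (kernel.ι f) := by
    apply QC.isIso_of_mono_of_surjective_affine_cover
    intro x
    obtain ⟨U, hU, hxU, hs⟩ := h x
    exact ⟨U, hU, hxU, fun s => QC.exists_kernel_section f U s (hs s)⟩
  rw [← cancel_epi (kernel.ι f), kernel.condition, comp_zero]

/-- composing a quotient by `J` with an epimorphism whose kernel lies in `J M`. -/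
lemma isQ_comp_of_kernel {J : Ideal A} {M M' Q : X.Modules} (t : M ⟶ M') [Epi t]
    (ht : kernel.ι t ≫ cokernel.π (Formal.smulFamily J M) = 0) {q : M' ⟶ Q} (hq : IsQ J q) :
    IsQ J (t ≫ q) := by
  rw [isQ_iff] at hq ⊢
  obtain ⟨eq, kq, uq⟩ := hq
  refine ⟨epi_comp t q, fun b hb => ?_, fun {Z} g hg => ?_⟩
  · rw [← Category.assoc, ← comp_smulMod, Category.assoc, kq b hb, comp_zero]
  · have hg' := (smulFamily_comp_eq_zero_iff J g).2 hg
    have h1 : cokernel.π (Formal.smulFamily J M) ≫ cokernel.desc _ g hg' = g :=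
      cokernel.π_desc _ _ _
    have h2 : kernel.ι t ≫ g = 0 := by
      rw [← h1, ← Category.assoc, ht, zero_comp]
    have h3 : t ≫ Abelian.epiDesc t g h2 = g := Abelian.comp_epiDesc t g h2
    obtain ⟨g₃, hg₃⟩ := uq (Abelian.epiDesc t g h2) (fun b hb => by
      rw [← cancel_epi t, comp_zero, ← Category.assoc, comp_smulMod, Category.assoc, h3]
      exact hg b hb)
    exact ⟨g₃, by rw [Category.assoc, hg₃, h3]⟩

lemma epi_idealMulMap (J : Ideal A) {M M' : X.Modules} (t : M ⟶ M') [Epi t] :
    Epi (idealMulMap J t) := by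
  refine ⟨fun {Z} f g hfg => ?_⟩
  apply idealMul_hom_ext
  intro b
  rw [← cancel_epi t, ← eComp_idealMulMap_assoc, ← eComp_idealMulMap_assoc, hfg]

/-- multiplying by `a` a morphism which lands in `J M'` after an epimorphism `t` whose kernel is
killed by `a`. -/
lemma mult_aux {J J' : Ideal A} (a : A) (haJ : ∀ b ∈ J, a * b ∈ J') {M M' Q : X.Modules}
    (t : M ⟶ M') [Epi t] (hk : kernel.ι t ≫ Formal.smulMod A M a = 0) (p : Q ⟶ M)
    (hp : p ≫ t ≫ cokernel.π (Formal.smulFamily J M') = 0) :
    p ≫ Formal.smulMod A M a ≫ cokernel.π (Formal.smulFamily J' M) = 0 := by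
  obtain ⟨v, hv⟩ := exists_lift_idealMul J M' (p ≫ t) (by rw [Category.assoc]; exact hp)
  haveI : Epi (idealMulMap J t) := epi_idealMulMap J t
  haveI : Epi (pullback.fst v (idealMulMap J t)) :=
    Abelian.epi_pullback_of_epi_g v (idealMulMap J t)
  have hc : pullback.fst v (idealMulMap J t) ≫ v =
      pullback.snd v (idealMulMap J t) ≫ idealMulMap J t := pullback.condition
  have h1 : (pullback.fst v (idealMulMap J t) ≫ p -
      pullback.snd v (idealMulMap J t) ≫ CohIII.idealMulι J M) ≫ t = 0 := by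
    rw [Preadditive.sub_comp, Category.assoc, Category.assoc, ← hv, ← idealMulMap_ι,
      ← Category.assoc, hc, Category.assoc, sub_self]
  have h2 : kernel.lift t _ h1 ≫ kernel.ι t = pullback.fst v (idealMulMap J t) ≫ p -
      pullback.snd v (idealMulMap J t) ≫ CohIII.idealMulι J M := kernel.lift_ι _ _ _
  have h3 : pullback.fst v (idealMulMap J t) ≫ p =
      pullback.snd v (idealMulMap J t) ≫ CohIII.idealMulι J M +
        kernel.lift t _ h1 ≫ kernel.ι t := by
    rw [h2]; abel
  rw [← cancel_epi (pullback.fst v (idealMulMap J t)), comp_zero, ← Category.assoc, h3,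
    Preadditive.add_comp]
  have e1 : (pullback.snd v (idealMulMap J t) ≫ CohIII.idealMulι J M) ≫
      Formal.smulMod A M a ≫ cokernel.π (Formal.smulFamily J' M) = 0 := by
    rw [Category.assoc, ← Category.assoc (CohIII.idealMulι J M), ← mulTo_ι M a haJ,
      Category.assoc, idealMulι_π, comp_zero, comp_zero]
  have e2 : (kernel.lift t _ h1 ≫ kernel.ι t) ≫
      Formal.smulMod A M a ≫ cokernel.π (Formal.smulFamily J' M) = 0 := by
    rw [Category.assoc, ← Category.assoc (kernel.ι t), hk, zero_comp, comp_zero]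
  rw [e1, e2, add_zero]

variable {F G : ℕᵒᵖ ⥤ X.Modules}

/-- the operator `T_a` of the graded family of a coherent formal module is "multiplication by `a`
of a lift". -/
lemma T_lift (hF : Formal.IsCohFormal I F) (a : A) (ha : a ∈ I) (k : ℕ) {W : X.Modules}
    (w : W ⟶ F.obj (op (k + 1 + 1))) (v : W ⟶ gr I F k)
    (h : w ≫ tr F (k + 1) = v ≫ CohIII.idealMulι (I ^ (k + 1)) (F.obj (op (k + 1)))) :
    v ≫ T hF a ha k ≫ CohIII.idealMulι (I ^ (k + 1 + 1)) (F.obj (op (k + 1 + 1))) =
      w ≫ Formal.smulMod A (F.obj (op (k + 1 + 1))) a := by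
  haveI := epi_E hF k
  haveI : Epi (pullback.fst v (E I F k)) := Abelian.epi_pullback_of_epi_g v (E I F k)
  have hc : pullback.fst v (E I F k) ≫ v = pullback.snd v (E I F k) ≫ E I F k :=
    pullback.condition
  rw [← cancel_epi (pullback.fst v (E I F k))]
  have hL : pullback.fst v (E I F k) ≫ v ≫ T hF a ha k ≫
      CohIII.idealMulι (I ^ (k + 1 + 1)) (F.obj (op (k + 1 + 1))) =
      (pullback.snd v (E I F k) ≫ Formal.smulFamily (I ^ (k + 1)) (F.obj (op (k + 1 + 1)))) ≫
        Formal.smulMod A (F.obj (op (k + 1 + 1))) a := by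
    rw [← Category.assoc, hc, Category.assoc, ← Category.assoc (E I F k), E_T, ψ_ι,
      Category.assoc]
  rw [hL]
  -- the difference dies after the transition map
  have hd : (pullback.fst v (E I F k) ≫ w -
      pullback.snd v (E I F k) ≫ Formal.smulFamily (I ^ (k + 1)) (F.obj (op (k + 1 + 1)))) ≫
      tr F (k + 1) = 0 := by
    rw [Preadditive.sub_comp, Category.assoc, Category.assoc, h, ← E_ι, ← Category.assoc, hc,
      Category.assoc, sub_self]
  obtain ⟨v', hv'⟩ := lemmaK hF (k + 1) _ hd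
  have hz : (pullback.fst v (E I F k) ≫ w -
      pullback.snd v (E I F k) ≫ Formal.smulFamily (I ^ (k + 1)) (F.obj (op (k + 1 + 1)))) ≫
      Formal.smulMod A (F.obj (op (k + 1 + 1))) a = 0 := by
    rw [← hv', Category.assoc,
      ι_smulMod_eq_zero (I ^ (k + 1 + 1)) (I ^ (k + 1 + 1 + 1)) _ (hF.2.1 (k + 1 + 1)) a
        (fun b hb => by rw [pow_succ' I (k + 1 + 1)]; exact Ideal.mul_mem_mul ha hb),
      comp_zero]
  rw [Preadditive.sub_comp, sub_eq_zero] at hz
  rw [← Category.assoc, hz]

end Groth.Agent.LD.FK
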