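import Groth.Agent.Lib.Lead.FK.Glue2

/-! # `I`-adic glueing, part 3: the completion of `P` and the main theorem -/

set_option autoImplicit false
universe u
open CategoryTheory Limits Opposite TopologicalSpace AlgebraicGeometry

namespace Groth.Agent.LD.FK
open Groth.Agent.LD.FF Groth.Agent.LD Groth.Agent.LD.GE Groth.Agent.LD.TS Groth.Agent.LD.GX
open Groth.Agent.H2.FormalQ hiding tr
open Groth.Agent.H2.FormalEq

local notation "trQ" => Groth.Agent.H2.FormalQ.tr

variable {A : Type u} [CommRing A] {X : Scheme.{u}} [X.Over (Spec (CommRingCat.of A))]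
  {I : Ideal A}

section S3
variable {G' : X.Modules} {F : ℕᵒᵖ ⥤ X.Modules} (hF : Formal.IsCohFormal I F)
  (β : F ⟶ Formal.completion I G') (hβ : ∀ n, Epi (β.app (op n))) (e : ℕ)
  (hZ : ∀ k, IsIso (trQ (kerSys β) (Nat.le_add_right e k)))

/-- the fibre product `F_e ×_{G'/I^(e+1)G'} G'`. -/
noncomputable abbrev PP : X.Modules := pullback (β.app (op e)) (cπ I G' e)

/-- the projection to `F_e`. -/
noncomputable abbrev pp₁ : PP β e ⟶ F.obj (op e) := pullback.fst _ _

/-- the projection to `G'`. -/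
noncomputable abbrev pp₂ : PP β e ⟶ G' := pullback.snd _ _

/-- the comparison `F_{e+k} ⟶ F_e ×_{E_e} E_{e+k}`. -/
noncomputable def θ (k : ℕ) : F.obj (op (e + k)) ⟶
    pullback (β.app (op e)) (trQ (Formal.completion I G') (Nat.le_add_right e k)) :=
  pullback.lift (trQ F (Nat.le_add_right e k)) (β.app (op (e + k))) (β.naturality _)

lemma θ_fst (k : ℕ) : θ β e k ≫ pullback.fst _ _ = trQ F (Nat.le_add_right e k) :=
  pullback.lift_fst _ _ _

lemma θ_snd (k : ℕ) : θ β e k ≫ pullback.snd _ _ = β.app (op (e + k)) :=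
  pullback.lift_snd _ _ _

include hβ hZ in
lemma isIso_θ (k : ℕ) : IsIso (θ β e k) := by
  haveI := hβ (e + k)
  exact isIso_pullback_lift (β.app (op (e + k))) (β.app (op e)) (trQ F (Nat.le_add_right e k))
    (trQ (Formal.completion I G') (Nat.le_add_right e k)) (β.naturality _) (hZ k)

include hβ hZ in
theorem exists_s (k : ℕ) : ∃ s : PP β e ⟶ F.obj (op (e + k)),
    s ≫ trQ F (Nat.le_add_right e k) = pp₁ β e ∧
      s ≫ β.app (op (e + k)) = pp₂ β e ≫ cπ I G' (e + k) := by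
  haveI := isIso_θ β hβ e hZ k
  have hc : pp₁ β e ≫ β.app (op e) = (pp₂ β e ≫ cπ I G' (e + k)) ≫
      trQ (Formal.completion I G') (Nat.le_add_right e k) := by
    rw [Category.assoc, cπ_map]
    exact pullback.condition
  refine ⟨pullback.lift _ _ hc ≫ inv (θ β e k), ?_, ?_⟩
  · rw [← θ_fst β e k, Category.assoc, IsIso.inv_hom_id_assoc, pullback.lift_fst]
  · rw [← θ_snd β e k, Category.assoc, IsIso.inv_hom_id_assoc, pullback.lift_snd]

include hβ hZ in
lemma s_unique (k : ℕ) {W : X.Modules} (s s' : W ⟶ F.obj (op (e + k)))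
    (h1 : s ≫ trQ F (Nat.le_add_right e k) = s' ≫ trQ F (Nat.le_add_right e k))
    (h2 : s ≫ β.app (op (e + k)) = s' ≫ β.app (op (e + k))) : s = s' := by
  haveI := isIso_θ β hβ e hZ k
  rw [← cancel_mono (θ β e k)]
  apply pullback.hom_ext
  · rw [Category.assoc, Category.assoc, θ_fst]
    exact h1
  · rw [Category.assoc, Category.assoc, θ_snd]
    exact h2

/-- the lifts `P ⟶ F_{e+k}`. -/
noncomputable def sFam (k : ℕ) : PP β e ⟶ F.obj (op (e + k)) := (exists_s β hβ e hZ k).choose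

lemma sFam_tr (k : ℕ) : sFam β hβ e hZ k ≫ trQ F (Nat.le_add_right e k) = pp₁ β e :=
  (exists_s β hβ e hZ k).choose_spec.1

lemma sFam_β (k : ℕ) :
    sFam β hβ e hZ k ≫ β.app (op (e + k)) = pp₂ β e ≫ cπ I G' (e + k) :=
  (exists_s β hβ e hZ k).choose_spec.2

lemma sFam_succ (k : ℕ) :
    sFam β hβ e hZ (k + 1) ≫ trQ F (Nat.le_succ (e + k)) = sFam β hβ e hZ k := by
  apply s_unique β hβ e hZ k
  · have h1 : trQ F (Nat.le_succ (e + k)) ≫ trQ F (Nat.le_add_right e k) =
        trQ F (Nat.le_add_right e (k + 1)) := tr_comp F _ _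
    calc (sFam β hβ e hZ (k + 1) ≫ trQ F (Nat.le_succ (e + k))) ≫ trQ F (Nat.le_add_right e k)
        = sFam β hβ e hZ (k + 1) ≫ trQ F (Nat.le_add_right e (k + 1)) := by
          rw [Category.assoc, h1]
      _ = pp₁ β e := sFam_tr β hβ e hZ (k + 1)
      _ = sFam β hβ e hZ k ≫ trQ F (Nat.le_add_right e k) := (sFam_tr β hβ e hZ k).symm
  · have hnat : trQ F (Nat.le_succ (e + k)) ≫ β.app (op (e + k)) =
        β.app (op (e + (k + 1))) ≫ trQ (Formal.completion I G') (Nat.le_succ (e + k)) :=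
      β.naturality _
    have h2 : cπ I G' (e + (k + 1)) ≫ trQ (Formal.completion I G') (Nat.le_succ (e + k)) =
        cπ I G' (e + k) := cπ_map G' (Nat.le_succ (e + k))
    calc (sFam β hβ e hZ (k + 1) ≫ trQ F (Nat.le_succ (e + k))) ≫ β.app (op (e + k))
        = (sFam β hβ e hZ (k + 1) ≫ β.app (op (e + (k + 1)))) ≫
            trQ (Formal.completion I G') (Nat.le_succ (e + k)) := by
          rw [Category.assoc, hnat, Category.assoc]
      _ = pp₂ β e ≫ cπ I G' (e + k) := by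
          rw [sFam_β β hβ e hZ (k + 1), Category.assoc, h2]
      _ = sFam β hβ e hZ k ≫ β.app (op (e + k)) := (sFam_β β hβ e hZ k).symm

include hF hβ in
theorem isQ_s (k : ℕ) (s : PP β e ⟶ F.obj (op (e + k)))
    (hs1 : s ≫ trQ F (Nat.le_add_right e k) = pp₁ β e)
    (hs2 : s ≫ β.app (op (e + k)) = pp₂ β e ≫ cπ I G' (e + k)) : IsQ (I ^ (e + k + 1)) s := by
  haveI := hβ e
  haveI : Epi (pp₁ β e) := Abelian.epi_pullback_of_epi_g _ _
  haveI : Epi (pp₂ β e) := Abelian.epi_pullback_of_epi_f _ _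
  haveI : Epi s := by
    apply epi_of_epi_comp_map_zero hF (e + k) s
    have h2 : trQ F (Nat.le_add_right e k) ≫ trQ F (Nat.zero_le e) =
        trQ F (Nat.zero_le (e + k)) := tr_comp F _ _
    have h1 : s ≫ F.map (homOfLE (Nat.zero_le (e + k))).op = pp₁ β e ≫ trQ F (Nat.zero_le e) := by
      change s ≫ trQ F (Nat.zero_le (e + k)) = _
      rw [← h2, ← Category.assoc, hs1]
    rw [h1]
    haveI : Epi (trQ F (Nat.zero_le e)) := (isQ_tr hF _).epi
    exact epi_comp _ _
  refine isQ_of_pullback s (pp₂ β e) (β.app (op (e + k))) (cπ I G' (e + k)) hs2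
    (fun {W} x hx1 hx2 => ?_) (isQ_cπ G' (e + k)) (hF.2.1 (e + k))
  apply pullback.hom_ext
  · rw [zero_comp]
    change x ≫ pp₁ β e = 0
    rw [← hs1, ← Category.assoc, hx1, zero_comp]
  · rw [zero_comp]
    exact hx2

/-- the projections `P ⟶ F_n`. -/
noncomputable def σ (n : ℕ) : PP β e ⟶ F.obj (op n) :=
  sFam β hβ e hZ n ≫ trQ F (Nat.le_add_left n e)

include hF in
lemma isQ_σ (n : ℕ) : IsQ (I ^ (n + 1)) (σ β hβ e hZ n) :=
  isQ_comp (Ideal.pow_le_pow_right (by omega))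
    (isQ_s hF β hβ e n _ (sFam_tr β hβ e hZ n) (sFam_β β hβ e hZ n)) (isQ_tr hF _)

lemma σ_succ (n : ℕ) : σ β hβ e hZ (n + 1) ≫ tr F n = σ β hβ e hZ n := by
  have h1 : trQ F (Nat.le_add_left (n + 1) e) ≫ tr F n =
      trQ F (Nat.le_succ (e + n)) ≫ trQ F (Nat.le_add_left n e) := by
    change trQ F (Nat.le_add_left (n + 1) e) ≫ trQ F (Nat.le_succ n) = _
    rw [tr_comp, tr_comp]
  unfold σ
  rw [Category.assoc, h1, ← Category.assoc, sFam_succ]

lemma σ_β (n : ℕ) : σ β hβ e hZ n ≫ β.app (op n) = pp₂ β e ≫ cπ I G' n := by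
  have hnat : trQ F (Nat.le_add_left n e) ≫ β.app (op n) =
      β.app (op (e + n)) ≫ trQ (Formal.completion I G') (Nat.le_add_left n e) := β.naturality _
  unfold σ
  rw [Category.assoc, hnat, ← Category.assoc, sFam_β, Category.assoc, cπ_map]

include hF in
/-- **`F` is the completion of `P`.** -/
theorem exists_iso : ∃ b : Formal.completion I (PP β e) ≅ F,
    ∀ n, cπ I (PP β e) n ≫ b.hom.app (op n) = σ β hβ e hZ n := by
  haveI : ∀ n : ℕᵒᵖ, IsIso ((sysOfFamily (I := I) hF.2.1 (σ β hβ e hZ)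
      (σ_succ β hβ e hZ)).app n) := by
    intro n
    obtain ⟨n⟩ := n
    obtain ⟨h, hiso⟩ := isQ_σ hF β hβ e hZ n
    exact hiso
  haveI : IsIso (sysOfFamily (I := I) hF.2.1 (σ β hβ e hZ) (σ_succ β hβ e hZ)) :=
    NatIso.isIso_of_isIso_app _
  exact ⟨asIso (sysOfFamily (I := I) hF.2.1 (σ β hβ e hZ) (σ_succ β hβ e hZ)),
    fun n => π_sysOfFamily hF.2.1 (σ β hβ e hZ) (σ_succ β hβ e hZ) n⟩

end S3

section S4
variable {G : X.Modules} {F : ℕᵒᵖ ⥤ X.Modules} (α : F ⟶ Formal.completion I G) (t' : ℕ)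
  (α' : F ⟶ Formal.completion I (Gsub α t')) (e : ℕ)

/-- the map `P ⟶ G' ⟶ G`. -/
noncomputable def aMap : PP α' e ⟶ G := pp₂ α' e ≫ Gι α t'

lemma killedBy_kernel_aMap (hk : Formal.KilledBy (I ^ t') (kernel (α'.app (op e)))) :
    Formal.KilledBy (I ^ t') (kernel (aMap α t' α' e)) := by
  have h1 : kernel.ι (aMap α t' α' e) ≫ pp₂ α' e = 0 := by
    rw [← cancel_mono (Gι α t'), zero_comp, Category.assoc]
    exact kernel.condition _
  have h2 : (kernel.ι (aMap α t' α' e) ≫ pp₁ α' e) ≫ α'.app (op e) = 0 := by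
    rw [Category.assoc, pullback.condition, ← Category.assoc, h1, zero_comp]
  haveI : Mono (kernel.lift (α'.app (op e)) _ h2) := by
    refine Preadditive.mono_of_cancel_zero _ (fun {W} x hx => ?_)
    have h3 : x ≫ kernel.ι (aMap α t' α' e) = 0 := by
      apply pullback.hom_ext
      · rw [zero_comp, Category.assoc, ← kernel.lift_ι (α'.app (op e)) _ h2, ← Category.assoc, hx,
          zero_comp]
      · rw [zero_comp, Category.assoc, h1, comp_zero]
    rw [← cancel_mono (kernel.ι (aMap α t' α' e)), h3, zero_comp]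
  exact killedBy_of_mono (kernel.lift (α'.app (op e)) _ h2) hk

lemma killedBy_cokernel_aMap [Epi (α'.app (op e))]
    (hC₀ : Formal.KilledBy (I ^ t') ((cokerSys α).obj (op t'))) :
    Formal.KilledBy (I ^ t') (cokernel (aMap α t' α' e)) := by
  haveI : Epi (pp₂ α' e) := Abelian.epi_pullback_of_epi_f _ _
  haveI : Epi (cokernel.π (aMap α t' α' e)) := coequalizer.π_epi
  have h1 : Gι α t' ≫ cokernel.π (aMap α t' α' e) = 0 := by
    rw [← cancel_epi (pp₂ α' e), comp_zero, ← Category.assoc]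
    exact cokernel.condition _
  have h2 : qG α t' ≫ Abelian.epiDesc (qG α t') (cokernel.π (aMap α t' α' e)) h1 =
      cokernel.π (aMap α t' α' e) := Abelian.comp_epiDesc _ _ _
  haveI : Epi (Abelian.epiDesc (qG α t') (cokernel.π (aMap α t' α' e)) h1) := epi_of_epi_fac h2
  exact killedBy_of_epi (Abelian.epiDesc (qG α t') _ h1) hC₀

end S4

/-- **`I`-adic glueing of a coherent formal module along a map to a completion with kernel and
cokernel killed by a power of `I`.** -/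
theorem s0829 (A : Type u) [CommRing A] (I : Ideal A) (X : Scheme.{u})
    [X.Over (Spec (CommRingCat.of A))] [IsNoetherian X] (G : X.Modules) (hG : Coh.IsCoh G)
    (F : ℕᵒᵖ ⥤ X.Modules) (hF : Formal.IsCohFormal I F) (α : F ⟶ Formal.completion I G)
    (hα : Formal2.KerCokerKilledByIPow I α) :
    ∃ (F' : X.Modules) (a : F' ⟶ G) (β : F ≅ Formal.completion I F'), Coh.IsCoh F' ∧
      Formal2.KerCokerKilledByIPowHom I a ∧
      ∀ n : ℕ, Formal.modPowπ I (n + 1) F' ≫ β.inv.app (op n) ≫ α.app (op n) =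
        a ≫ Formal.modPowπ I (n + 1) G := by
  obtain ⟨t, ht⟩ := hα
  have hĜ := Groth.Agent.H2.AlgzExt.isCohFormal_completion I hG
  have hC := isCohFormal_cokerSys hF hĜ α
  have hCk : ∀ n : ℕ, Formal.KilledBy (I ^ (t + 1)) ((cokerSys α).obj (op n)) :=
    fun n => (ht n).2
  have hCmono : ∀ n, Mono (trQ (cokerSys α) (Nat.le_add_right (t + 1) n)) := fun n => by
    haveI := isIso_tr_of_killedBy hC hCk (Nat.le_add_right (t + 1) n)
    infer_instance
  obtain ⟨α', hα'⟩ := exists_αsub hF α (t + 1) (hCk (t + 1))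
  have hcomp := αsub_comp hF α (t + 1) (hCk (t + 1)) α' hα'
  have hepi := epi_αsub_app α (t + 1) (hCk (t + 1)) α' hα' hCmono
  have hker := fun n => killedBy_kernel_αsub α (t + 1) α' hcomp n (ht n).1
  have hG' : Coh.IsCoh (Gsub α (t + 1)) := QC.isCoh_kernel _ hG (hC.1 (t + 1))
  have hĜ' := Groth.Agent.H2.AlgzExt.isCohFormal_completion I hG'
  obtain ⟨e, he⟩ := exists_isIso_tr_kerSys hF hĜ' α' hepi (t + 1) hker
  have hZ := isIso_trQ_of_succ (Z := kerSys α') he
  obtain ⟨b, hb⟩ := exists_iso hF α' hepi e hZ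
  refine ⟨PP α' e, aMap α (t + 1) α' e, b.symm, ?_, ⟨t, ?_, ?_⟩, fun n => ?_⟩
  · exact isCoh_pullback _ _ (hF.1 e) hG' (hĜ'.1 e).1
  · exact killedBy_kernel_aMap α (t + 1) α' e (hker e)
  · haveI := hepi e
    exact killedBy_cokernel_aMap α (t + 1) α' e (hCk (t + 1))
  · change cπ I (PP α' e) n ≫ b.hom.app (op n) ≫ α.app (op n) =
      aMap α (t + 1) α' e ≫ cπ I G n
    have h1 : α.app (op n) = α'.app (op n) ≫ (complMap (I := I) (Gι α (t + 1))).app (op n) :=
      congrArg (fun z : F ⟶ Formal.completion I G => z.app (op n)) hcomp.symm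
    rw [← Category.assoc, hb n, h1, ← Category.assoc, σ_β, Category.assoc, cπ_complMap]
    rfl

end Groth.Agent.LD.FK
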