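import Groth.Agent.Lib.Lead.FK.Glue1

/-! # `I`-adic glueing, part 2: the module `P = F_e ×_{G'/I^(e+1)} G'` -/

set_option autoImplicit false
universe u
open CategoryTheory Limits Opposite TopologicalSpace AlgebraicGeometry

namespace Groth.Agent.LD.FK
open Groth.Agent.LD.FF Groth.Agent.LD Groth.Agent.LD.GE Groth.Agent.LD.TS Groth.Agent.LD.GX
open Groth.Agent.H2.FormalQ hiding tr
open Groth.Agent.H2.FormalEq

local notation "trQ" => Groth.Agent.H2.FormalQ.tr

section Abstract

variable {C : Type*} [Category C] [Abelian C]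

/-- a square with vertical epimorphisms inducing an isomorphism on kernels is cartesian. -/
theorem isIso_pullback_lift {F₁ F₀ E₁ E₀ : C} (b₁ : F₁ ⟶ E₁) (b₀ : F₀ ⟶ E₀) (tF : F₁ ⟶ F₀)
    (tE : E₁ ⟶ E₀) (w : tF ≫ b₀ = b₁ ≫ tE) [Epi b₁]
    (hk : IsIso (kernel.map b₁ b₀ tF tE w.symm)) : IsIso (pullback.lift tF b₁ w) := by
  haveI := hk
  haveI : Mono (pullback.lift tF b₁ w) := by
    refine Preadditive.mono_of_cancel_zero _ (fun {W} x hx => ?_)
    have h1 : x ≫ tF = 0 := by
      rw [← pullback.lift_fst tF b₁ w, ← Category.assoc, hx, zero_comp]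
    have h2 : x ≫ b₁ = 0 := by
      rw [← pullback.lift_snd tF b₁ w, ← Category.assoc, hx, zero_comp]
    have h3 : kernel.lift b₁ x h2 ≫ kernel.map b₁ b₀ tF tE w.symm = 0 := by
      rw [← cancel_mono (kernel.ι b₀), zero_comp, Category.assoc, kernel.lift_ι,
        ← Category.assoc, kernel.lift_ι, h1]
    have h4 : kernel.lift b₁ x h2 = 0 := by
      rw [← cancel_mono (kernel.map b₁ b₀ tF tE w.symm), h3, zero_comp]
    rw [← kernel.lift_ι b₁ x h2, h4, zero_comp]
  haveI : Epi (pullback.lift tF b₁ w) := by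
    rw [epi_iff_surjective_up_to_refinements]
    intro W y
    obtain ⟨W₁, π₁, hπ₁, x₀, hx₀⟩ := surjective_up_to_refinements_of_epi b₁ (y ≫ pullback.snd b₀ tE)
    have hd : (x₀ ≫ tF - π₁ ≫ y ≫ pullback.fst b₀ tE) ≫ b₀ = 0 := by
      have e1 : (x₀ ≫ tF) ≫ b₀ = (π₁ ≫ y ≫ pullback.snd b₀ tE) ≫ tE := by
        rw [hx₀, Category.assoc, Category.assoc, w]
      have e2 : (π₁ ≫ y ≫ pullback.fst b₀ tE) ≫ b₀ = (π₁ ≫ y ≫ pullback.snd b₀ tE) ≫ tE := by
        simp only [Category.assoc, pullback.condition]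
      rw [Preadditive.sub_comp, e1, e2, sub_self]
    refine ⟨W₁, π₁, hπ₁, x₀ - (kernel.lift b₀ _ hd ≫ inv (kernel.map b₁ b₀ tF tE w.symm)) ≫
      kernel.ι b₁, ?_⟩
    apply pullback.hom_ext
    · rw [Category.assoc, Category.assoc, pullback.lift_fst, Preadditive.sub_comp, Category.assoc]
      have e1 : kernel.ι b₁ ≫ tF = kernel.map b₁ b₀ tF tE w.symm ≫ kernel.ι b₀ :=
        (kernel.lift_ι _ _ _).symm
      rw [e1, Category.assoc, IsIso.inv_hom_id_assoc, kernel.lift_ι]
      abel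
    · rw [Category.assoc, Category.assoc, pullback.lift_snd, Preadditive.sub_comp, Category.assoc,
        kernel.condition, comp_zero, sub_zero, hx₀]
  exact isIso_of_mono_of_epi _

end Abstract

variable {A : Type u} [CommRing A] {X : Scheme.{u}} [X.Over (Spec (CommRingCat.of A))]
  {I : Ideal A}

/-- the projection of a fibre product over a quotient by `J` is a quotient by `J`. -/
theorem isQ_of_pullback {J : Ideal A} {P F₁ E₁ G' : X.Modules} (s : P ⟶ F₁) (p₂ : P ⟶ G')
    (b : F₁ ⟶ E₁) (ρ : G' ⟶ E₁) (hsq : s ≫ b = p₂ ≫ ρ) [Epi s] [Epi p₂]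
    (hmono : ∀ {W : X.Modules} (x : W ⟶ P), x ≫ s = 0 → x ≫ p₂ = 0 → x = 0)
    (hρ : IsQ J ρ) (hF₁ : Formal.KilledBy J F₁) : IsQ J s := by
  have hkill : ∀ c ∈ J, Formal.smulMod A P c ≫ s = 0 := fun c hc => by
    rw [← comp_smulMod, hF₁ c hc, comp_zero]
  rw [isQ_iff]
  refine ⟨inferInstance, hkill, fun {Z'} g hg => ?_⟩
  have hιs : CohIII.idealMulι J P ≫ s = 0 := by
    apply idealMul_hom_ext
    intro c
    rw [comp_zero, eComp_ι_assoc]
    exact hkill c c.2
  have hιg : CohIII.idealMulι J P ≫ g = 0 := by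
    apply idealMul_hom_ext
    intro c
    rw [comp_zero, eComp_ι_assoc]
    exact hg c c.2
  have h1 : (kernel.ι s ≫ p₂) ≫ cokernel.π (Formal.smulFamily J G') = 0 := by
    obtain ⟨h, hiso⟩ := hρ
    haveI := hiso
    rw [← cancel_mono (cokernel.desc _ ρ h), zero_comp, Category.assoc, cokernel.π_desc,
      Category.assoc, ← hsq, ← Category.assoc, kernel.condition, zero_comp]
  obtain ⟨v, hv⟩ := exists_lift_idealMul J G' (kernel.ι s ≫ p₂) h1
  haveI : Epi (idealMulMap J p₂) := epi_idealMulMap J p₂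
  haveI : Epi (pullback.fst v (idealMulMap J p₂)) := Abelian.epi_pullback_of_epi_g _ _
  have hc : pullback.fst v (idealMulMap J p₂) ≫ v =
      pullback.snd v (idealMulMap J p₂) ≫ idealMulMap J p₂ := pullback.condition
  have h2 : pullback.fst v (idealMulMap J p₂) ≫ kernel.ι s -
      pullback.snd v (idealMulMap J p₂) ≫ CohIII.idealMulι J P = 0 := by
    apply hmono
    · rw [Preadditive.sub_comp, Category.assoc, kernel.condition, comp_zero, Category.assoc, hιs,
        comp_zero, sub_self]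
    · rw [Preadditive.sub_comp, Category.assoc, ← hv, ← Category.assoc, hc, Category.assoc,
        Category.assoc, idealMulMap_ι, sub_self]
  rw [sub_eq_zero] at h2
  have h3 : kernel.ι s ≫ g = 0 := by
    rw [← cancel_epi (pullback.fst v (idealMulMap J p₂)), comp_zero, ← Category.assoc, h2,
      Category.assoc, hιg, comp_zero]
  exact ⟨Abelian.epiDesc s g h3, Abelian.comp_epiDesc s g h3⟩

/-- coherence of fibre products. -/
lemma isCoh_pullback [IsLocallyNoetherian X] {M N Z : X.Modules} (f : M ⟶ Z) (g : N ⟶ Z)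
    (hM : Coh.IsCoh M) (hN : Coh.IsCoh N) (hZ : Z.IsQuasicoherent) :
    Coh.IsCoh (pullback f g) := by
  have hq : (pullback f g).IsQuasicoherent := by
    apply QC.qc_limit (cospan f g)
    rintro (_ | _ | _)
    · exact hZ
    · exact hM.1
    · exact hN.1
  haveI := hM.1
  haveI := hN.1
  have hb : Coh.IsCoh (M ⊞ N) :=
    ⟨SC.qc_biprod M N hM.1 hN.1, QC.isFiniteType_biprod M N hM.2 hN.2⟩
  haveI : Mono (biprod.lift (pullback.fst f g) (pullback.snd f g)) := ⟨fun x y h => by
    apply pullback.hom_ext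
    · simpa using congrArg (fun z => z ≫ biprod.fst) h
    · simpa using congrArg (fun z => z ≫ biprod.snd) h⟩
  exact QC.isCoh_of_mono (biprod.lift (pullback.fst f g) (pullback.snd f g)) hq hb

/-- the kernels of a termwise epimorphism of coherent formal modules with kernels killed by a fixed
power of the ideal are eventually constant. -/
theorem exists_isIso_tr_kerSys [IsNoetherian X] {F E : ℕᵒᵖ ⥤ X.Modules}
    (hF : Formal.IsCohFormal I F) (hE : Formal.IsCohFormal I E) (β : F ⟶ E)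
    (hβ : ∀ n, Epi (β.app (op n))) (t' : ℕ)
    (hker : ∀ n, Formal.KilledBy (I ^ t') (kernel (β.app (op n)))) :
    ∃ k₂ : ℕ, ∀ N, k₂ ≤ N → IsIso (tr (kerSys β) N) := by
  obtain ⟨s, a, h1, h2⟩ := exists_fg_sLe (X := X) I
  have hFJ := isCohFormal_of_sLe h1 h2 hF
  have hEJ := isCohFormal_of_sLe h1 h2 hE
  obtain ⟨k₁, hAR⟩ := exists_AR a rfl hFJ hEJ β hβ
  refine ⟨k₁ + t', fun N hN => ?_⟩
  haveI := hβ (N + 1)
  have hS := kerSys_shortExact hFJ hEJ β N
  have hkill : Formal.KilledBy (Ideal.span (Set.range a) ^ t') (kernel (β.app (op (N + 1)))) :=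
    h1 t' _ (hker (N + 1))
  haveI : IsIso (Formal.modPowπ (Ideal.span (Set.range a)) t' (kernel (β.app (op (N + 1))))) :=
    isIso_of_isQ_of_killedBy (isQ_modPowπ _ t' _) hkill
  have hf0 : fK hFJ hEJ β N = 0 := by
    rw [← cancel_mono (Formal.modPowπ (Ideal.span (Set.range a)) t'
      (kernel (β.app (op (N + 1))))), zero_comp]
    exact hAR t' N hN
  haveI : Mono (kerComplex (grComplexMap hFJ hEJ β N)).g := hS.exact.mono_g hf0
  haveI : Epi (kerComplex (grComplexMap hFJ hEJ β N)).g := hS.epi_g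
  exact isIso_of_mono_of_epi (kerComplex (grComplexMap hFJ hEJ β N)).g

/-- iterating: all the transition maps above `e` are isomorphisms. -/
lemma isIso_trQ_of_succ {Z : ℕᵒᵖ ⥤ X.Modules} {e : ℕ} (h : ∀ N, e ≤ N → IsIso (tr Z N)) (k : ℕ) :
    IsIso (trQ Z (Nat.le_add_right e k)) := by
  induction k with
  | zero =>
    have : trQ Z (Nat.le_add_right e 0) = 𝟙 _ := tr_refl Z e
    rw [this]
    infer_instance
  | succ k ih =>
    have h1 : trQ Z (Nat.le_add_right e (k + 1)) =
        trQ Z (Nat.le_succ (e + k)) ≫ trQ Z (Nat.le_add_right e k) := (tr_comp Z _ _).symm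
    rw [h1]
    haveI := ih
    haveI : IsIso (trQ Z (Nat.le_succ (e + k))) := h (e + k) (Nat.le_add_right e k)
    infer_instance

section S2b
variable {G : X.Modules} {F : ℕᵒᵖ ⥤ X.Modules} (hF : Formal.IsCohFormal I F)
  (α : F ⟶ Formal.completion I G) (t' : ℕ)
  (hC₀ : Formal.KilledBy (I ^ t') ((cokerSys α).obj (op t')))

/-- the maps `F_{t'+n} ⟶ G'/I^(n+1)G'`. -/
noncomputable def φ (n : ℕ) :
    F.obj (op (t' + n)) ⟶ (Formal.completion I (Gsub α t')).obj (op n) :=
  (exists_φ α t' hC₀ n).choose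

lemma φ_spec (n : ℕ) {W : X.Modules} (x : W ⟶ F.obj (op (t' + n))) (g' : W ⟶ Gsub α t')
    (hx : x ≫ α.app (op (t' + n)) = g' ≫ Gι α t' ≫ cπ I G (t' + n)) :
    x ≫ φ α t' hC₀ n = g' ≫ cπ I (Gsub α t') n :=
  (exists_φ α t' hC₀ n).choose_spec.1 x g' hx

lemma epi_φ (n : ℕ) (hmono : Mono (trQ (cokerSys α) (Nat.le_add_right t' n))) :
    Epi (φ α t' hC₀ n) :=
  (exists_φ α t' hC₀ n).choose_spec.2 hmono

lemma φ_compat (n k : ℕ) (h : n ≤ k) :
    trQ F (Nat.add_le_add_left h t') ≫ φ α t' hC₀ n =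
      φ α t' hC₀ k ≫ (Formal.completion I (Gsub α t')).map (homOfLE h).op := by
  obtain ⟨W, x, g', hx, hxg⟩ := exists_cover α t' (Nat.le_add_right t' k)
  haveI := hx
  have hnat : trQ F (Nat.add_le_add_left h t') ≫ α.app (op (t' + n)) =
      α.app (op (t' + k)) ≫ trQ (Formal.completion I G) (Nat.add_le_add_left h t') :=
    α.naturality _
  have h1 : (x ≫ trQ F (Nat.add_le_add_left h t')) ≫ α.app (op (t' + n)) =
      g' ≫ Gι α t' ≫ cπ I G (t' + n) := by
    rw [Category.assoc, hnat, ← Category.assoc, hxg, Category.assoc, Category.assoc, cπ_map]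
  rw [← cancel_epi x, ← Category.assoc, φ_spec α t' hC₀ n _ g' h1, ← Category.assoc,
    φ_spec α t' hC₀ k x g' hxg, Category.assoc, cπ_map]

include hF in
theorem exists_αsub : ∃ α' : F ⟶ Formal.completion I (Gsub α t'),
    ∀ n, trQ F (Nat.le_add_left n t') ≫ α'.app (op n) = φ α t' hC₀ n :=
  (existsUnique_desc hF (fun n => killedBy_modPow I (n + 1) (Gsub α t')) t' (φ α t' hC₀)
    (φ_compat α t' hC₀)).exists

variable (α' : F ⟶ Formal.completion I (Gsub α t'))
  (hα' : ∀ n, trQ F (Nat.le_add_left n t') ≫ α'.app (op n) = φ α t' hC₀ n)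

include hF hα' in
lemma αsub_comp : α' ≫ complMap (I := I) (Gι α t') = α := by
  apply NatTrans.ext
  funext n
  obtain ⟨n⟩ := n
  haveI : Epi (trQ F (Nat.le_add_left n t')) := (isQ_tr hF _).epi
  obtain ⟨W, x, g', hx, hxg⟩ := exists_cover α t' (Nat.le_add_right t' n)
  haveI := hx
  change α'.app (op n) ≫ (complMap (I := I) (Gι α t')).app (op n) = α.app (op n)
  have hnat : trQ F (Nat.le_add_left n t') ≫ α.app (op n) =
      α.app (op (t' + n)) ≫ trQ (Formal.completion I G) (Nat.le_add_left n t') :=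
    α.naturality _
  have e1 : x ≫ trQ F (Nat.le_add_left n t') ≫ α'.app (op n) ≫
      (complMap (I := I) (Gι α t')).app (op n) = g' ≫ Gι α t' ≫ cπ I G n := by
    calc x ≫ trQ F (Nat.le_add_left n t') ≫ α'.app (op n) ≫
          (complMap (I := I) (Gι α t')).app (op n)
        = (x ≫ φ α t' hC₀ n) ≫ (complMap (I := I) (Gι α t')).app (op n) := by
          rw [← hα' n]; simp only [Category.assoc]
      _ = (g' ≫ cπ I (Gsub α t') n) ≫ (complMap (I := I) (Gι α t')).app (op n) := by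
          rw [φ_spec α t' hC₀ n x g' hxg]
      _ = g' ≫ Gι α t' ≫ cπ I G n := by rw [Category.assoc, cπ_complMap]
  have e2 : x ≫ trQ F (Nat.le_add_left n t') ≫ α.app (op n) = g' ≫ Gι α t' ≫ cπ I G n := by
    calc x ≫ trQ F (Nat.le_add_left n t') ≫ α.app (op n)
        = (x ≫ α.app (op (t' + n))) ≫ trQ (Formal.completion I G) (Nat.le_add_left n t') := by
          rw [hnat]; simp only [Category.assoc]
      _ = g' ≫ Gι α t' ≫ cπ I G n := by
          rw [hxg]; simp only [Category.assoc]; rw [cπ_map]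
  rw [← cancel_epi (trQ F (Nat.le_add_left n t')), ← cancel_epi x, e1, e2]

include hα' in
lemma epi_αsub_app (hmono : ∀ n, Mono (trQ (cokerSys α) (Nat.le_add_right t' n))) (n : ℕ) :
    Epi (α'.app (op n)) := by
  haveI := epi_φ α t' hC₀ n (hmono n)
  haveI : Epi (trQ F (Nat.le_add_left n t') ≫ α'.app (op n)) := by
    rw [hα' n]; infer_instance
  exact epi_of_epi (trQ F (Nat.le_add_left n t')) _

omit hC₀ in
lemma killedBy_kernel_αsub (hcomp : α' ≫ complMap (I := I) (Gι α t') = α) (n : ℕ)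
    (hk : Formal.KilledBy (I ^ t') (kernel (α.app (op n)))) :
    Formal.KilledBy (I ^ t') (kernel (α'.app (op n))) := by
  have h0 : kernel.ι (α'.app (op n)) ≫ α.app (op n) = 0 := by
    have h1 : α.app (op n) = α'.app (op n) ≫ (complMap (I := I) (Gι α t')).app (op n) :=
      congrArg (fun t : F ⟶ Formal.completion I G => t.app (op n)) hcomp.symm
    rw [h1, ← Category.assoc, kernel.condition, zero_comp]
  haveI : Mono (kernel.lift (α.app (op n)) _ h0) := mono_of_mono_fac (kernel.lift_ι _ _ h0)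
  exact killedBy_of_mono (kernel.lift (α.app (op n)) _ h0) hk

end S2b

end Groth.Agent.LD.FK
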