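import Groth.Agent.Lib.Lead.FK.Basic
import Groth.Agent.Lib.Lead.FF.Noeth

/-! # Artin–Rees for the system of kernels of a termwise epimorphism of coherent formal modules -/

set_option autoImplicit false
universe u
open CategoryTheory Limits Opposite TopologicalSpace AlgebraicGeometry

namespace Groth.Agent.LD.FK
open Groth.Agent.LD.FF Groth.Agent.LD Groth.Agent.LD.GE Groth.Agent.LD.TS Groth.Agent.LD.GX
open Groth.Agent.H2.FormalQ hiding tr

variable {A : Type u} [CommRing A] {X : Scheme.{u}} [X.Over (Spec (CommRingCat.of A))]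
  {I : Ideal A} {F G : ℕᵒᵖ ⥤ X.Modules}

/-- the inclusion `ker(gr_k β) ⟶ ker β_{k+1}`. -/
noncomputable abbrev fK (hF : Formal.IsCohFormal I F) (hG : Formal.IsCohFormal I G) (β : F ⟶ G)
    (k : ℕ) : kernel (grMap (I := I) β k) ⟶ kernel (β.app (op (k + 1))) :=
  (kerComplex (grComplexMap hF hG β k)).f

lemma fK_ι (hF : Formal.IsCohFormal I F) (hG : Formal.IsCohFormal I G) (β : F ⟶ G) (k : ℕ) :
    fK hF hG β k ≫ kernel.ι (β.app (op (k + 1))) =
      kernel.ι (grMap (I := I) β k) ≫ CohIII.idealMulι (I ^ (k + 1)) (F.obj (op (k + 1))) :=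
  kernel.lift_ι _ _ _

lemma fK_smulMod (hF : Formal.IsCohFormal I F) (hG : Formal.IsCohFormal I G) (β : F ⟶ G) (k : ℕ)
    (b : A) (hb : b ∈ I) :
    fK hF hG β k ≫ Formal.smulMod A (kernel (β.app (op (k + 1)))) b = 0 := by
  rw [← cancel_mono (kernel.ι (β.app (op (k + 1)))), zero_comp, Category.assoc, ← comp_smulMod,
    ← Category.assoc, fK_ι, Category.assoc,
    ι_smulMod_eq_zero (I ^ (k + 1)) (I ^ (k + 1 + 1)) _ (hF.2.1 (k + 1)) b
      (fun c hc => by rw [pow_succ' I (k + 1)]; exact Ideal.mul_mem_mul hb hc), comp_zero]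

section fam
variable {s : ℕ} (a : Fin s → A) (ha : Ideal.span (Set.range a) = I)
  (hF : Formal.IsCohFormal I F) (hG : Formal.IsCohFormal I G) (β : F ⟶ G)

/-- the operators of the kernel family, with explicit source and target. -/
noncomputable def Tker (i : Fin s) (k : ℕ) :
    kernel (grMap (I := I) β k) ⟶ kernel (grMap (I := I) β (k + 1)) :=
  (formalFamMap a ha hF hG β).kerFam.T i k

lemma Tker_ι (i : Fin s) (k : ℕ) :
    Tker a ha hF hG β i k ≫ kernel.ι (grMap (I := I) β (k + 1)) =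
      kernel.ι (grMap (I := I) β k) ≫ T hF (a i) (a_mem a ha i) k :=
  GHom.kerFam_T_ι (formalFamMap a ha hF hG β) i k

/-- the key step: the operators of the kernel family raise the `I`-adic order of the inclusions
`ker(gr_k β) ⟶ ker β_{k+1}` by one. -/
lemma T_fK_comp (hβ : ∀ n, Epi (β.app (op n))) (i : Fin s) (k m : ℕ)
    (h : fK hF hG β k ≫ Formal.modPowπ I m (kernel (β.app (op (k + 1)))) = 0) :
    Tker a ha hF hG β i k ≫ fK hF hG β (k + 1) ≫
      Formal.modPowπ I (m + 1) (kernel (β.app (op (k + 1 + 1)))) = 0 := by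
  haveI := hβ (k + 1 + 1)
  have hS := kerSys_shortExact hF hG β (k + 1)
  haveI := hS.mono_f
  let t : kernel (β.app (op (k + 1 + 1))) ⟶ kernel (β.app (op (k + 1))) := tr (kerSys β) (k + 1)
  haveI : Epi t := hS.epi_g
  haveI : Epi (pullback.fst (fK hF hG β k) t) := Abelian.epi_pullback_of_epi_g _ _
  have hc : pullback.fst (fK hF hG β k) t ≫ fK hF hG β k = pullback.snd (fK hF hG β k) t ≫ t :=
    pullback.condition
  have hnat : t ≫ kernel.ι (β.app (op (k + 1))) =
      kernel.ι (β.app (op (k + 1 + 1))) ≫ tr F (k + 1) :=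
    (kerSysι β).naturality (homOfLE (Nat.le_succ (k + 1))).op
  -- Step A
  have hA := T_lift hF (a i) (a_mem a ha i) k
    (pullback.snd (fK hF hG β k) t ≫ kernel.ι (β.app (op (k + 1 + 1))))
    (pullback.fst (fK hF hG β k) t ≫ kernel.ι (grMap (I := I) β k)) (by
      rw [Category.assoc, ← hnat, ← Category.assoc, ← hc, Category.assoc, fK_ι, Category.assoc])
  have e1 : (pullback.fst (fK hF hG β k) t ≫ Tker a ha hF hG β i k ≫
      fK hF hG β (k + 1)) ≫ kernel.ι (β.app (op (k + 1 + 1))) =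
      (pullback.fst (fK hF hG β k) t ≫ kernel.ι (grMap (I := I) β k)) ≫
        T hF (a i) (a_mem a ha i) k ≫
          CohIII.idealMulι (I ^ (k + 1 + 1)) (F.obj (op (k + 1 + 1))) := by
    rw [Category.assoc, Category.assoc, fK_ι, ← Category.assoc (Tker a ha hF hG β i k),
      Tker_ι, Category.assoc, Category.assoc]
  have e2 : (pullback.snd (fK hF hG β k) t ≫
      Formal.smulMod A (kernel (β.app (op (k + 1 + 1)))) (a i)) ≫
        kernel.ι (β.app (op (k + 1 + 1))) =
      (pullback.snd (fK hF hG β k) t ≫ kernel.ι (β.app (op (k + 1 + 1)))) ≫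
        Formal.smulMod A (F.obj (op (k + 1 + 1))) (a i) := by
    rw [Category.assoc, Category.assoc, comp_smulMod]
  have hB : pullback.fst (fK hF hG β k) t ≫ Tker a ha hF hG β i k ≫
      fK hF hG β (k + 1) =
      pullback.snd (fK hF hG β k) t ≫
        Formal.smulMod A (kernel (β.app (op (k + 1 + 1)))) (a i) := by
    rw [← cancel_mono (kernel.ι (β.app (op (k + 1 + 1)))), e1, e2, hA]
  -- Step B
  have hk : kernel.ι t ≫ Formal.smulMod A (kernel (β.app (op (k + 1 + 1)))) (a i) = 0 := by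
    have hkt : kernel.ι t ≫ (kerComplex (grComplexMap hF hG β (k + 1))).g = 0 :=
      kernel.condition t
    obtain ⟨l, hl⟩ : ∃ l : kernel t ⟶ kernel (grMap (I := I) β (k + 1)),
        l ≫ fK hF hG β (k + 1) = kernel.ι t :=
      ⟨hS.exact.lift (kernel.ι t) hkt, hS.exact.lift_f _ _⟩
    rw [← hl, Category.assoc, fK_smulMod hF hG β (k + 1) (a i) (a_mem a ha i), comp_zero]
  have hp : pullback.snd (fK hF hG β k) t ≫ t ≫
      cokernel.π (Formal.smulFamily (I ^ m) (kernel (β.app (op (k + 1))))) = 0 := by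
    rw [← Category.assoc, ← hc, Category.assoc]
    exact (congrArg (fun z => _ ≫ z) h).trans comp_zero
  have hC := mult_aux (J := I ^ m) (J' := I ^ (m + 1)) (a i)
    (fun b hb => by rw [pow_succ' I m]; exact Ideal.mul_mem_mul (a_mem a ha i) hb) t hk
    (pullback.snd (fK hF hG β k) t) hp
  rw [← cancel_epi (pullback.fst (fK hF hG β k) t), comp_zero, ← Category.assoc,
    ← Category.assoc, Category.assoc (pullback.fst (fK hF hG β k) t), hB, Category.assoc]
  exact hC

/-- **Artin–Rees for the kernels**: `ker(gr_k β) ⊆ I^m ker β_{k+1}` for `k ≥ k₁ + m`. -/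
lemma fK_comp_modPowπ [IsLocallyNoetherian X] (hβ : ∀ n, Epi (β.app (op n)))
    {𝒰 : Set X.Opens} (h𝒰 : ∀ U ∈ 𝒰, IsAffineOpen U) (hcov : ∀ x : X, ∃ U ∈ 𝒰, x ∈ U) {k₁ : ℕ}
    (hEv : (formalFamMap a ha hF hG β).kerFam.EvGen 𝒰 k₁) :
    ∀ m k, k₁ + m ≤ k →
      fK hF hG β k ≫ Formal.modPowπ I m (kernel (β.app (op (k + 1)))) = 0 := by
  intro m
  induction m with
  | zero =>
    intro k _
    rw [modPowπ_zero, comp_zero]
  | succ m ih =>
    intro k hk
    obtain ⟨k', rfl⟩ : ∃ k', k = k' + 1 := ⟨k - 1, by omega⟩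
    have hk' : k₁ + m ≤ k' := by omega
    have hk₁ : k₁ ≤ k' := by omega
    have hqF : ∀ j, (gr I F j).IsQuasicoherent := fun j => qc_idealMul _ _ (hF.1 (j + 1)).1
    have hqG : ∀ j, (gr I G j).IsQuasicoherent := fun j => qc_idealMul _ _ (hG.1 (j + 1)).1
    have hM : (kernel (grMap (I := I) β (k' + 1))).IsQuasicoherent :=
      QC.qc_kernel _ (hqF (k' + 1)) (hqG (k' + 1))
    have hcoh : Coh.IsCoh (kernel (β.app (op (k' + 1 + 1)))) :=
      QC.isCoh_kernel _ (hF.1 _) (hG.1 _)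
    have hN : (Formal.modPow I (m + 1) (kernel (β.app (op (k' + 1 + 1))))).IsQuasicoherent :=
      (Groth.Agent.H2.FormalEq.isCoh_modPow I (m + 1) hcoh).1
    refine hom_eq_zero_of_affine_cover hM hN _ (fun x => ?_)
    obtain ⟨U, hU, hxU⟩ := hcov x
    refine ⟨U, h𝒰 U hU, hxU, fun z => ?_⟩
    obtain ⟨y, hy⟩ := hEv k' hk₁ U hU z
    have hz : z = ∑ i, (Tker a ha hF hG β i k').app U (y i) := hy
    have h4 : (fK hF hG β (k' + 1) ≫
        Formal.modPowπ I (m + 1) (kernel (β.app (op (k' + 1 + 1))))).app U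
          (∑ i, (Tker a ha hF hG β i k').app U (y i)) =
        ∑ i, (fK hF hG β (k' + 1) ≫
          Formal.modPowπ I (m + 1) (kernel (β.app (op (k' + 1 + 1))))).app U
            ((Tker a ha hF hG β i k').app U (y i)) := map_sum _ _ _
    rw [hz, h4]
    refine Finset.sum_eq_zero fun i _ => ?_
    have h1 : (Tker a ha hF hG β i k' ≫ fK hF hG β (k' + 1) ≫
        Formal.modPowπ I (m + 1) (kernel (β.app (op (k' + 1 + 1))))).app U (y i) = 0 := by
      rw [T_fK_comp a ha hF hG β hβ i k' m (ih k' hk')]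
      rfl
    exact h1

include a ha in
/-- existence of the Artin–Rees constant. -/
theorem exists_AR [IsLocallyNoetherian X] [CompactSpace X] (hβ : ∀ n, Epi (β.app (op n))) :
    ∃ k₁ : ℕ, ∀ m k, k₁ + m ≤ k →
      fK hF hG β k ≫ Formal.modPowπ I m (kernel (β.app (op (k + 1)))) = 0 := by
  obtain ⟨𝒰, hfin, h𝒰, hcov⟩ := FF.exists_finite_affine_cover X
  obtain ⟨k₁, hk₁⟩ := GHom.kerFam_evGen (formalFamMap a ha hF hG β) noethHyp
    (formalFam_isCoh a ha hF) h𝒰 hfin (formalFam_evGen a ha hF 𝒰 h𝒰)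
  exact ⟨k₁, fK_comp_modPowπ a ha hF hG β hβ h𝒰 hcov hk₁⟩

end fam

end Groth.Agent.LD.FK
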