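import Groth.Agent.Lib.Lead.FK.Ker
import Groth.Agent.Lib.Helper2.FormalEq4

/-! # Kernels in the category of coherent formal modules -/

set_option autoImplicit false
universe u
open CategoryTheory Limits Opposite TopologicalSpace AlgebraicGeometry

namespace Groth.Agent.LD.FK
open Groth.Agent.LD.FF Groth.Agent.LD Groth.Agent.LD.GE Groth.Agent.LD.TS Groth.Agent.LD.GX
open Groth.Agent.H2.FormalQ hiding tr
open Groth.Agent.H2.FormalEq

variable {A : Type u} [CommRing A] {X : Scheme.{u}} [X.Over (Spec (CommRingCat.of A))]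
  {I : Ideal A} {F G H : ℕᵒᵖ ⥤ X.Modules}

/-- the system of cokernels of a morphism of systems. -/
noncomputable def cokerSys (α : F ⟶ G) : ℕᵒᵖ ⥤ X.Modules where
  obj n := cokernel (α.app n)
  map {n m} f := cokernel.map (α.app n) (α.app m) (F.map f) (G.map f) (α.naturality f).symm
  map_id n := by
    rw [← cancel_epi (cokernel.π _)]
    simp
  map_comp f g := by
    rw [← cancel_epi (cokernel.π _)]
    simp

/-- the projection to the system of cokernels. -/
noncomputable def cokerSysπ (α : F ⟶ G) : G ⟶ cokerSys α where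
  app n := cokernel.π (α.app n)
  naturality n m f := by simp [cokerSys]

lemma comp_cokerSysπ (α : F ⟶ G) : α ≫ cokerSysπ α = 0 := by
  apply NatTrans.ext
  funext n
  exact cokernel.condition (α.app n)

instance epi_cokerSysπ_app (α : F ⟶ G) (n : ℕᵒᵖ) : Epi ((cokerSysπ α).app n) :=
  (coequalizer.π_epi : Epi (cokernel.π (α.app n)))

lemma app_comp_cokerSysπ (α : F ⟶ G) (n : ℕᵒᵖ) : α.app n ≫ (cokerSysπ α).app n = 0 :=
  cokernel.condition (α.app n)

lemma exists_cokerSys_desc (α : F ⟶ G) (n : ℕᵒᵖ) {Z' : X.Modules} (g : G.obj n ⟶ Z')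
    (h : α.app n ≫ g = 0) : ∃ g' : (cokerSys α).obj n ⟶ Z', (cokerSysπ α).app n ≫ g' = g :=
  ⟨cokernel.desc _ g h, cokernel.π_desc _ _ _⟩

/-- the termwise cokernel of a morphism of coherent formal modules is a coherent formal module. -/
theorem isCohFormal_cokerSys (hF : Formal.IsCohFormal I F) (hG : Formal.IsCohFormal I G)
    (α : F ⟶ G) : Formal.IsCohFormal I (cokerSys α) := by
  have hkill : ∀ n, Formal.KilledBy (I ^ (n + 1)) ((cokerSys α).obj (op n)) :=
    fun n => killedBy_of_epi ((cokerSysπ α).app (op n)) (hG.2.1 n)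
  refine ⟨fun n => QC.isCoh_cokernel _ (hF.1 n) (hG.1 n), hkill, fun n => ?_⟩
  change IsQ (I ^ (n + 1)) (tr (cokerSys α) n)
  have hnat : tr G n ≫ (cokerSysπ α).app (op n) =
      (cokerSysπ α).app (op (n + 1)) ≫ tr (cokerSys α) n := (cokerSysπ α).naturality _
  have hQ : IsQ (I ^ (n + 1)) (tr G n) := hG.2.2 n
  haveI := hQ.epi
  haveI := epi_tr hF n
  rw [isQ_iff]
  refine ⟨?_, fun b hb => ?_, fun {Z'} g hg => ?_⟩
  · haveI : Epi ((cokerSysπ α).app (op (n + 1)) ≫ tr (cokerSys α) n) := by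
      rw [← hnat]; exact epi_comp _ _
    exact epi_of_epi ((cokerSysπ α).app (op (n + 1))) _
  · rw [← comp_smulMod, hkill n b hb, comp_zero]
  · obtain ⟨g₁, hg₁⟩ := ((isQ_iff _ _).1 hQ).2.2 ((cokerSysπ α).app (op (n + 1)) ≫ g)
      (fun b hb => by
        rw [← Category.assoc, ← comp_smulMod, Category.assoc, hg b hb, comp_zero])
    have h0 : α.app (op n) ≫ g₁ = 0 := by
      rw [← cancel_epi (tr F n), comp_zero, ← Category.assoc, tr_naturality α n, Category.assoc,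
        hg₁, ← Category.assoc, app_comp_cokerSysπ, zero_comp]
    obtain ⟨g₂, hg₂⟩ := exists_cokerSys_desc α (op n) g₁ h0
    refine ⟨g₂, ?_⟩
    rw [← cancel_epi ((cokerSysπ α).app (op (n + 1))), ← Category.assoc, ← hnat, Category.assoc,
      hg₂, hg₁]

/-- lifting to the system of kernels. -/
noncomputable def kerSysLift (β : F ⟶ G) (γ : H ⟶ F) (h : γ ≫ β = 0) : H ⟶ kerSys β where
  app n := kernel.lift (β.app n) (γ.app n) (by
    have := congrArg (fun t : H ⟶ G => t.app n) h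
    exact this)
  naturality n m f := by
    haveI : Mono ((kerSysι β).app m) := inferInstanceAs (Mono (kernel.ι (β.app m)))
    apply (cancel_mono ((kerSysι β).app m)).1
    simp [kerSys, kerSysι]

lemma kerSysLift_ι (β : F ⟶ G) (γ : H ⟶ F) (h : γ ≫ β = 0) :
    kerSysLift β γ h ≫ kerSysι β = γ := by
  apply NatTrans.ext
  funext n
  exact kernel.lift_ι _ _ _

/-- **kernels of morphisms of coherent formal modules**, for a finitely generated ideal. -/
theorem exists_kernel_fg [IsLocallyNoetherian X] [CompactSpace X] {s : ℕ} (a : Fin s → A)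
    (ha : Ideal.span (Set.range a) = I) (hF : Formal.IsCohFormal I F)
    (hG : Formal.IsCohFormal I G) (α : F ⟶ G) :
    ∃ (K : ℕᵒᵖ ⥤ X.Modules) (κ : K ⟶ F), Formal.IsCohFormal I K ∧ κ ≫ α = 0 ∧
      ∀ (H : ℕᵒᵖ ⥤ X.Modules), Formal.IsCohFormal I H → ∀ γ : H ⟶ F, γ ≫ α = 0 →
        ∃! δ : H ⟶ K, δ ≫ κ = γ := by
  have hC := isCohFormal_cokerSys hF hG α
  obtain ⟨K₁, κ₁, hK₁, hκ₁, hex₁, huniq₁⟩ := exists_kernel_of_epi a ha hG hC (cokerSysπ α)
    (fun n => inferInstanceAs (Epi (cokernel.π (α.app (op n)))))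
  obtain ⟨α₁, hα₁, hepi⟩ := hex₁ F hF (kerSysLift (cokerSysπ α) α (comp_cokerSysπ α))
  have hα₁' : α₁ ≫ κ₁ = α := by rw [hα₁, kerSysLift_ι]
  have hepi' : ∀ n, Epi (α₁.app (op n)) :=
    hepi (fun n => inferInstanceAs (Epi (Abelian.factorThruImage (α.app (op n)))))
  obtain ⟨K₂, κ₂, hK₂, hκ₂, hex₂, huniq₂⟩ := exists_kernel_of_epi a ha hF hK₁ α₁ hepi'
  refine ⟨K₂, κ₂, hK₂, ?_, fun H hH γ hγ => ?_⟩
  · rw [← hα₁', ← Category.assoc, hκ₂, zero_comp]
  · have h0 : γ ≫ α₁ = 0 := huniq₁ H hH _ _ (by rw [Category.assoc, hα₁', hγ, zero_comp])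
    obtain ⟨δ, hδ, -⟩ := hex₂ H hH (kerSysLift α₁ γ h0)
    have hδγ : δ ≫ κ₂ = γ := hδ.trans (kerSysLift_ι α₁ γ h0)
    exact ⟨δ, hδγ, fun δ' hδ' => huniq₂ H hH δ' δ (hδ'.trans hδγ.symm)⟩

/-- quotients by ideals generating the same ideal sheaf. -/
lemma isQ_of_sLe {J' J : Ideal A} (h1 : SLe X J' J) (h2 : SLe X J J') {M Q : X.Modules}
    {p : M ⟶ Q} (hp : IsQ J p) : IsQ J' p := by
  rw [isQ_iff] at hp ⊢
  exact ⟨hp.1, smulMod_comp_eq_zero_of_sLe h1 p hp.2.1,
    fun g hg => hp.2.2 g (smulMod_comp_eq_zero_of_sLe h2 g hg)⟩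

/-- coherent formal modules only depend on the ideal sheaves generated by the powers. -/
lemma isCohFormal_of_sLe {I J : Ideal A} (h1 : ∀ k, SLe X (J ^ k) (I ^ k))
    (h2 : ∀ k, SLe X (I ^ k) (J ^ k)) {F : ℕᵒᵖ ⥤ X.Modules} (hF : Formal.IsCohFormal I F) :
    Formal.IsCohFormal J F :=
  ⟨hF.1, fun n => h1 (n + 1) _ (hF.2.1 n),
    fun n => isQ_of_sLe (h1 (n + 1)) (h2 (n + 1)) (hF.2.2 n)⟩

/-- on a Noetherian scheme, every ideal of the base ring generates the same ideal sheaf (and so do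
the powers) as a finitely generated subideal. -/
theorem exists_fg_sLe [IsNoetherian X] (I : Ideal A) :
    ∃ (s : ℕ) (a : Fin s → A), (∀ k, SLe X (Ideal.span (Set.range a) ^ k) (I ^ k)) ∧
      ∀ k, SLe X (I ^ k) (Ideal.span (Set.range a) ^ k) := by
  obtain ⟨t, ht, e⟩ := isCompact_and_isOpen_iff_finite_and_eq_biUnion_affineOpens.mp
    ⟨(CompactSpace.isCompact_univ : IsCompact (Set.univ : Set X)), isOpen_univ⟩
  haveI := ht.to_subtype
  have hT : ∀ U : t, ∃ T : Finset A, (↑T : Set A) ⊆ (I : Set A) ∧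
      Ideal.map (φU U.1.1) I ≤ Ideal.span ((φU U.1.1) '' (↑T : Set A)) := by
    intro U
    haveI : IsNoetherianRing Γ(X, U.1.1) := IsLocallyNoetherian.component_noetherian U.1
    have hfg : (Submodule.span Γ(X, U.1.1) ((φU U.1.1) '' (I : Set A))).FG :=
      IsNoetherian.noetherian _
    obtain ⟨s', hs', hspan⟩ := (Submodule.fg_span_iff_fg_span_finset_subset _).1 hfg
    classical
    obtain ⟨T, hT, rfl⟩ := Finset.subset_set_image_iff.1 hs'
    refine ⟨T, hT, ?_⟩
    have h3 : Ideal.map (φU U.1.1) I = Ideal.span ((φU U.1.1) '' (↑T : Set A)) := by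
      change Submodule.span _ _ = Submodule.span _ _
      rw [hspan, Finset.coe_image]
    exact h3.le
  choose T hTI hTU using hT
  let J : Ideal A := Ideal.span (⋃ U : t, (↑(T U) : Set A))
  have hJI : J ≤ I := Ideal.span_le.2 (Set.iUnion_subset hTI)
  have hJfg : J.FG := Submodule.fg_span (Set.finite_iUnion fun U => (T U).finite_toSet)
  obtain ⟨s, a, ha⟩ := Submodule.fg_iff_exists_fin_generating_family.1 hJfg
  have ha' : Ideal.span (Set.range a) = J := ha
  refine ⟨s, a, fun k => ?_, fun k => ?_⟩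
  · rw [ha']
    exact SLe.of_le (Ideal.pow_right_mono hJI k)
  · rw [ha']
    refine sLe_of_cover (fun U : t => U.1.1) ?_ ?_
    · intro x _
      have hx : x ∈ (Set.univ : Set X) := trivial
      rw [e] at hx
      simp only [Set.mem_iUnion] at hx
      obtain ⟨U, hUt, hxU⟩ := hx
      exact Opens.mem_iSup.2 ⟨⟨U, hUt⟩, hxU⟩
    · intro U b hb
      have h1 : φU U.1.1 b ∈ Ideal.map (φU U.1.1) (I ^ k) := Ideal.mem_map_of_mem _ hb
      rw [Ideal.map_pow] at h1
      rw [Ideal.map_pow]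
      refine Ideal.pow_right_mono ?_ k h1
      refine (hTU U).trans (Ideal.span_le.2 ?_)
      rintro _ ⟨x, hx, rfl⟩
      exact Ideal.mem_map_of_mem _ (Ideal.subset_span (Set.mem_iUnion.2 ⟨U, hx⟩))

/-- **kernels of morphisms of coherent formal modules** on a Noetherian scheme. -/
theorem exists_kernel [IsNoetherian X] (I : Ideal A) {F G : ℕᵒᵖ ⥤ X.Modules}
    (hF : Formal.IsCohFormal I F) (hG : Formal.IsCohFormal I G) (α : F ⟶ G) :
    ∃ (K : ℕᵒᵖ ⥤ X.Modules) (κ : K ⟶ F), Formal.IsCohFormal I K ∧ κ ≫ α = 0 ∧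
      ∀ (H : ℕᵒᵖ ⥤ X.Modules), Formal.IsCohFormal I H → ∀ γ : H ⟶ F, γ ≫ α = 0 →
        ∃! δ : H ⟶ K, δ ≫ κ = γ := by
  obtain ⟨s, a, h1, h2⟩ := exists_fg_sLe (X := X) I
  have hFJ := isCohFormal_of_sLe h1 h2 hF
  have hGJ := isCohFormal_of_sLe h1 h2 hG
  obtain ⟨K, κ, hK, hκ, hu⟩ := exists_kernel_fg a rfl hFJ hGJ α
  exact ⟨K, κ, isCohFormal_of_sLe h2 h1 hK, hκ,
    fun H hH γ hγ => hu H (isCohFormal_of_sLe h1 h2 hH) γ hγ⟩

/-- **the category of coherent formal modules on a Noetherian scheme has kernels.** -/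
theorem hasKernels (A : Type u) [CommRing A] (I : Ideal A) (X : Scheme.{u})
    [X.Over (Spec (CommRingCat.of A))] [IsNoetherian X] :
    HasKernels (Formal2.CohFormalCat I X) := by
  refine ⟨fun {P Q} f => ?_⟩
  obtain ⟨K, κ, hK, hκ, huniv⟩ := exists_kernel I P.property Q.property f.hom
  let K' : Formal2.CohFormalCat I X := ⟨K, hK⟩
  let κ' : K' ⟶ P := ObjectProperty.homMk κ
  have hκ' : κ' ≫ f = 0 := ObjectProperty.hom_ext _ hκ
  have huniv' : ∀ {W : Formal2.CohFormalCat I X} (g : W ⟶ P), g ≫ f = 0 →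
      ∃! l : W ⟶ K', l ≫ κ' = g := by
    intro W g hg
    have hg' : g.hom ≫ f.hom = 0 := congrArg (fun t : W ⟶ Q => t.hom) hg
    obtain ⟨δ, hδ, hu⟩ := huniv W.obj W.property g.hom hg'
    exact ⟨ObjectProperty.homMk δ, ObjectProperty.hom_ext _ hδ,
      fun l hl => ObjectProperty.hom_ext _ (hu l.hom (congrArg (fun t : W ⟶ P => t.hom) hl))⟩
  exact HasLimit.mk ⟨KernelFork.ofι κ' hκ', KernelFork.IsLimit.ofι κ' hκ'
    (fun g hg => (huniv' g hg).choose) (fun g hg => (huniv' g hg).choose_spec.1)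
    (fun g hg m hm => (huniv' g hg).choose_spec.2 m hm)⟩

end Groth.Agent.LD.FK
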