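import Groth.Agent.Lib.Lead.FK.Gen
import Groth.Agent.Lib.Helper2.AlgzExt1

/-! # `I`-adic glueing, part 1: the submodule `G' ⊆ G` and the termwise epimorphism `F ⟶ (G')^` -/

set_option autoImplicit false
universe u
open CategoryTheory Limits Opposite TopologicalSpace AlgebraicGeometry

namespace Groth.Agent.LD.FK
open Groth.Agent.LD.FF Groth.Agent.LD Groth.Agent.LD.GE Groth.Agent.LD.TS Groth.Agent.LD.GX
open Groth.Agent.H2.FormalQ hiding tr
open Groth.Agent.H2.FormalEq

local notation "trQ" => Groth.Agent.H2.FormalQ.tr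

variable {A : Type u} [CommRing A] {X : Scheme.{u}} [X.Over (Spec (CommRingCat.of A))]
  {I : Ideal A}

/-- the projection `M ⟶ (M^)_n`, typed with the completion system. -/
noncomputable def cπ (I : Ideal A) (M : X.Modules) (n : ℕ) :
    M ⟶ (Formal.completion I M).obj (op n) :=
  Formal.modPowπ I (n + 1) M

instance epi_cπ (M : X.Modules) (n : ℕ) : Epi (cπ I M n) :=
  (isQ_modPowπ I (n + 1) M).epi

lemma isQ_cπ (M : X.Modules) (n : ℕ) : IsQ (I ^ (n + 1)) (cπ I M n) := isQ_modPowπ I (n + 1) M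

@[reassoc]
lemma cπ_map (M : X.Modules) {n k : ℕ} (h : n ≤ k) :
    cπ I M k ≫ (Formal.completion I M).map (homOfLE h).op = cπ I M n :=
  π_completion_map I M h

@[reassoc]
lemma cπ_complMap {P M : X.Modules} (κ : P ⟶ M) (n : ℕ) :
    cπ I P n ≫ (complMap (I := I) κ).app (op n) = κ ≫ cπ I M n :=
  π_complMap κ n

section S1
variable {G C₀ : X.Modules} (q : G ⟶ C₀) {t' : ℕ} (hC₀ : Formal.KilledBy (I ^ t') C₀)

include hC₀ in
lemma exists_mul_lift (n : ℕ) : ∀ b ∈ I ^ (n + 1) * I ^ t', ∃ l : G ⟶ kernel q,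
    l ≫ kernel.ι q = Formal.smulMod A G b ∧ l ≫ Formal.modPowπ I (n + 1) (kernel q) = 0 := by
  intro b hb
  refine Submodule.mul_induction_on hb ?_ ?_
  · intro b' hb' b'' hb''
    have h0 : Formal.smulMod A G b'' ≫ q = 0 := by
      rw [← comp_smulMod, hC₀ b'' hb'', comp_zero]
    refine ⟨kernel.lift q _ h0 ≫ Formal.smulMod A (kernel q) b', ?_, ?_⟩
    · rw [Category.assoc, ← comp_smulMod, ← Category.assoc, kernel.lift_ι, CohIII.smulMod_mul]
    · rw [Category.assoc]
      exact (congrArg (fun z => kernel.lift q _ h0 ≫ z)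
        (smulMod_π (I ^ (n + 1)) (kernel q) b' hb')).trans comp_zero
  · rintro x y ⟨l₁, h₁, h₁'⟩ ⟨l₂, h₂, h₂'⟩
    exact ⟨l₁ + l₂, by rw [Preadditive.add_comp, h₁, h₂, smulMod_add],
      by rw [Preadditive.add_comp, h₁', h₂', add_zero]⟩

include hC₀ in
/-- a morphism to `G' = ker q` landing in `I^(t'+n+1) G` lands in `I^(n+1) G'`. -/
lemma comp_modPowπ_eq_zero (n : ℕ) {W : X.Modules} (w' : W ⟶ kernel q)
    (hw : w' ≫ kernel.ι q ≫ Formal.modPowπ I (t' + n + 1) G = 0) :
    w' ≫ Formal.modPowπ I (n + 1) (kernel q) = 0 := by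
  obtain ⟨v, hv⟩ := exists_lift_idealMul (I ^ (t' + n + 1)) G (w' ≫ kernel.ι q) (by
    rw [Category.assoc]; exact hw)
  have hχ0 : CohIII.idealMulι (I ^ (t' + n + 1)) G ≫ q = 0 := by
    apply idealMul_hom_ext
    intro b
    rw [comp_zero, eComp_ι_assoc, ← comp_smulMod,
      hC₀ b (Ideal.pow_le_pow_right (by omega : t' ≤ t' + n + 1) b.2), comp_zero]
  have hχ' : kernel.lift q _ hχ0 ≫ Formal.modPowπ I (n + 1) (kernel q) = 0 := by
    apply idealMul_hom_ext
    intro b
    rw [comp_zero]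
    have hb : (b : A) ∈ I ^ (n + 1) * I ^ t' := by
      rw [← pow_add]
      have e : n + 1 + t' = t' + n + 1 := by omega
      rw [e]
      exact b.2
    obtain ⟨l, hl1, hl2⟩ := exists_mul_lift q hC₀ n b hb
    have e1 : eComp (I ^ (t' + n + 1)) G b ≫ kernel.lift q _ hχ0 = l := by
      rw [← cancel_mono (kernel.ι q), Category.assoc, kernel.lift_ι, eComp_ι, hl1]
    rw [← Category.assoc, e1, hl2]
  have e2 : w' = v ≫ kernel.lift q _ hχ0 := by
    rw [← cancel_mono (kernel.ι q), Category.assoc, kernel.lift_ι, hv]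
  rw [e2, Category.assoc, hχ', comp_zero]

end S1

section S2
variable {G : X.Modules} {F : ℕᵒᵖ ⥤ X.Modules} (α : F ⟶ Formal.completion I G) (t' : ℕ)

/-- `G ⟶ coker α_{t'}`. -/
noncomputable def qG : G ⟶ (cokerSys α).obj (op t') :=
  cπ I G t' ≫ (cokerSysπ α).app (op t')

/-- the submodule `G' ⊆ G`, the kernel of `G ⟶ coker α_{t'}`. -/
noncomputable abbrev Gsub : X.Modules := kernel (qG α t')

/-- the inclusion `G' ⟶ G`. -/
noncomputable abbrev Gι : Gsub α t' ⟶ G := kernel.ι (qG α t')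

instance epi_qG : Epi (qG α t') := by
  unfold qG
  exact epi_comp _ _

lemma qG_eq {N : ℕ} (hN : t' ≤ N) :
    qG α t' = cπ I G N ≫ (cokerSysπ α).app (op N) ≫ trQ (cokerSys α) hN := by
  have h1 : (cokerSysπ α).app (op N) ≫ trQ (cokerSys α) hN =
      trQ (Formal.completion I G) hN ≫ (cokerSysπ α).app (op t') :=
    ((cokerSysπ α).naturality (homOfLE hN).op).symm
  rw [h1, cπ_map_assoc]
  rfl

lemma snd_qG {N : ℕ} (hN : t' ≤ N) :
    pullback.snd (α.app (op N)) (cπ I G N) ≫ qG α t' = 0 := by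
  have hc : pullback.fst (α.app (op N)) (cπ I G N) ≫ α.app (op N) =
      pullback.snd (α.app (op N)) (cπ I G N) ≫ cπ I G N := pullback.condition
  have e : pullback.snd (α.app (op N)) (cπ I G N) ≫ cπ I G N ≫ (cokerSysπ α).app (op N) ≫
      trQ (cokerSys α) hN =
      (pullback.fst (α.app (op N)) (cπ I G N) ≫ α.app (op N)) ≫ (cokerSysπ α).app (op N) ≫
        trQ (cokerSys α) hN := by
    rw [hc, Category.assoc]
  rw [qG_eq α t' hN, e, Category.assoc, ← Category.assoc (α.app (op N)), app_comp_cokerSysπ,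
    zero_comp, comp_zero]

/-- the lift `F_N ×_{G/I^(N+1)G} G ⟶ G'`. -/
noncomputable def sndLift {N : ℕ} (hN : t' ≤ N) :
    pullback (α.app (op N)) (cπ I G N) ⟶ Gsub α t' :=
  kernel.lift (qG α t') _ (snd_qG α t' hN)

lemma sndLift_ι {N : ℕ} (hN : t' ≤ N) :
    sndLift α t' hN ≫ Gι α t' = pullback.snd (α.app (op N)) (cπ I G N) :=
  kernel.lift_ι _ _ _

lemma lift_sndLift {N : ℕ} (hN : t' ≤ N) {W : X.Modules} (x : W ⟶ F.obj (op N))
    (g' : W ⟶ Gsub α t') (hx : x ≫ α.app (op N) = (g' ≫ Gι α t') ≫ cπ I G N) :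
    pullback.lift x (g' ≫ Gι α t') hx ≫ sndLift α t' hN = g' := by
  rw [← cancel_mono (Gι α t'), Category.assoc, sndLift_ι, pullback.lift_snd]

lemma epi_sndLift {N : ℕ} (hN : t' ≤ N) (hmono : Mono (trQ (cokerSys α) hN)) :
    Epi (sndLift α t' hN) := by
  have h1 : Gι α t' ≫ qG α t' = 0 := kernel.condition _
  have h1' : Gι α t' ≫ cπ I G N ≫ (cokerSysπ α).app (op N) ≫ trQ (cokerSys α) hN = 0 :=
    (congrArg (fun z => Gι α t' ≫ z) (qG_eq α t' hN)).symm.trans h1
  have h2 : (Gι α t' ≫ cπ I G N) ≫ (cokerSysπ α).app (op N) = 0 := by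
    rw [← cancel_mono (trQ (cokerSys α) hN), zero_comp, Category.assoc, Category.assoc]
    exact h1'
  have h2' : (Gι α t' ≫ cπ I G N) ≫ cokernel.π (α.app (op N)) = 0 := h2
  haveI : Epi (pullback.fst (kernel.lift (cokernel.π (α.app (op N))) _ h2')
      (Abelian.factorThruImage (α.app (op N)))) := Abelian.epi_pullback_of_epi_g _ _
  have hc2 : pullback.fst (kernel.lift (cokernel.π (α.app (op N))) _ h2')
      (Abelian.factorThruImage (α.app (op N))) ≫ kernel.lift (cokernel.π (α.app (op N))) _ h2' =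
      pullback.snd (kernel.lift (cokernel.π (α.app (op N))) _ h2')
        (Abelian.factorThruImage (α.app (op N))) ≫ Abelian.factorThruImage (α.app (op N)) :=
    pullback.condition
  have h6 : Abelian.factorThruImage (α.app (op N)) ≫ Abelian.image.ι (α.app (op N)) =
      α.app (op N) := Abelian.image.fac _
  have h7 : kernel.lift (cokernel.π (α.app (op N))) _ h2' ≫ Abelian.image.ι (α.app (op N)) =
      Gι α t' ≫ cπ I G N := kernel.lift_ι _ _ _
  have h4 : pullback.snd (kernel.lift (cokernel.π (α.app (op N))) _ h2')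
      (Abelian.factorThruImage (α.app (op N))) ≫ α.app (op N) =
      (pullback.fst (kernel.lift (cokernel.π (α.app (op N))) _ h2')
        (Abelian.factorThruImage (α.app (op N))) ≫ Gι α t') ≫ cπ I G N := by
    calc pullback.snd (kernel.lift (cokernel.π (α.app (op N))) _ h2')
          (Abelian.factorThruImage (α.app (op N))) ≫ α.app (op N)
        = pullback.snd (kernel.lift (cokernel.π (α.app (op N))) _ h2')
          (Abelian.factorThruImage (α.app (op N))) ≫ Abelian.factorThruImage (α.app (op N)) ≫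
            Abelian.image.ι (α.app (op N)) := by rw [h6]
      _ = (pullback.fst (kernel.lift (cokernel.π (α.app (op N))) _ h2')
          (Abelian.factorThruImage (α.app (op N))) ≫
            kernel.lift (cokernel.π (α.app (op N))) _ h2') ≫ Abelian.image.ι (α.app (op N)) := by
          rw [hc2, Category.assoc]
      _ = (pullback.fst (kernel.lift (cokernel.π (α.app (op N))) _ h2')
          (Abelian.factorThruImage (α.app (op N))) ≫ Gι α t') ≫ cπ I G N := by
          rw [Category.assoc, h7, Category.assoc]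
  exact epi_of_epi_fac (lift_sndLift α t' hN _ _ h4)

/-- covers of `F_N` by pairs mapping compatibly to `F_N` and `G'`. -/
theorem exists_cover {N : ℕ} (hN : t' ≤ N) :
    ∃ (W : X.Modules) (x : W ⟶ F.obj (op N)) (g' : W ⟶ Gsub α t'), Epi x ∧
      x ≫ α.app (op N) = g' ≫ Gι α t' ≫ cπ I G N := by
  haveI : Epi (pullback.fst (α.app (op N)) (cπ I G N)) := Abelian.epi_pullback_of_epi_g _ _
  refine ⟨_, pullback.fst (α.app (op N)) (cπ I G N), sndLift α t' hN, inferInstance, ?_⟩
  rw [← Category.assoc, sndLift_ι]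
  exact pullback.condition

/-- the maps `F_{t'+n} ⟶ G'/I^(n+1)G'`. -/
theorem exists_φ (hC₀ : Formal.KilledBy (I ^ t') ((cokerSys α).obj (op t'))) (n : ℕ) :
    ∃ φ : F.obj (op (t' + n)) ⟶ (Formal.completion I (Gsub α t')).obj (op n),
      (∀ {W : X.Modules} (x : W ⟶ F.obj (op (t' + n))) (g' : W ⟶ Gsub α t'),
        x ≫ α.app (op (t' + n)) = g' ≫ Gι α t' ≫ cπ I G (t' + n) →
          x ≫ φ = g' ≫ cπ I (Gsub α t') n) ∧
      (Mono (trQ (cokerSys α) (Nat.le_add_right t' n)) → Epi φ) := by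
  haveI : Epi (pullback.fst (α.app (op (t' + n))) (cπ I G (t' + n))) :=
    Abelian.epi_pullback_of_epi_g _ _
  have hc : pullback.fst (α.app (op (t' + n))) (cπ I G (t' + n)) ≫ α.app (op (t' + n)) =
      pullback.snd (α.app (op (t' + n))) (cπ I G (t' + n)) ≫ cπ I G (t' + n) :=
    pullback.condition
  have hw : (kernel.ι (pullback.fst (α.app (op (t' + n))) (cπ I G (t' + n))) ≫
      sndLift α t' (Nat.le_add_right t' n)) ≫ Gι α t' ≫ cπ I G (t' + n) = 0 := by
    rw [Category.assoc, ← Category.assoc (sndLift α t' (Nat.le_add_right t' n)), sndLift_ι, ← hc,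
      ← Category.assoc, kernel.condition, zero_comp]
  have hk : kernel.ι (pullback.fst (α.app (op (t' + n))) (cπ I G (t' + n))) ≫
      sndLift α t' (Nat.le_add_right t' n) ≫ cπ I (Gsub α t') n = 0 :=
    (Category.assoc _ _ _).symm.trans (comp_modPowπ_eq_zero (qG α t') hC₀ n _ hw)
  have key : ∀ {W : X.Modules} (x : W ⟶ F.obj (op (t' + n))) (g' : W ⟶ Gsub α t'),
      x ≫ α.app (op (t' + n)) = g' ≫ Gι α t' ≫ cπ I G (t' + n) →
        x ≫ Abelian.epiDesc (pullback.fst (α.app (op (t' + n))) (cπ I G (t' + n)))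
          (sndLift α t' (Nat.le_add_right t' n) ≫ cπ I (Gsub α t') n) hk =
          g' ≫ cπ I (Gsub α t') n := by
    intro W x g' hx
    have hx' : x ≫ α.app (op (t' + n)) = (g' ≫ Gι α t') ≫ cπ I G (t' + n) := by
      rw [Category.assoc]; exact hx
    rw [← pullback.lift_fst x (g' ≫ Gι α t') hx', Category.assoc, Abelian.comp_epiDesc,
      ← Category.assoc, lift_sndLift]
  refine ⟨_, key, fun hmono => ?_⟩
  haveI := epi_sndLift α t' (Nat.le_add_right t' n) hmono
  haveI : Epi (sndLift α t' (Nat.le_add_right t' n) ≫ cπ I (Gsub α t') n) := epi_comp _ _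
  exact epi_of_epi_fac (Abelian.comp_epiDesc
    (pullback.fst (α.app (op (t' + n))) (cπ I G (t' + n)))
    (sndLift α t' (Nat.le_add_right t' n) ≫ cπ I (Gsub α t') n) hk)

end S2

end Groth.Agent.LD.FK
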