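import Groth.Agent.Lib.Lead.FK.AR

/-! # The kernel of a termwise epimorphism of coherent formal modules -/

set_option autoImplicit false
universe u
open CategoryTheory Limits Opposite TopologicalSpace AlgebraicGeometry

namespace Groth.Agent.LD.FK
open Groth.Agent.LD.FF Groth.Agent.LD Groth.Agent.LD.GE Groth.Agent.LD.TS Groth.Agent.LD.GX
open Groth.Agent.H2.FormalQ hiding tr
open Groth.Agent.H2.FormalEq

local notation "trQ" => Groth.Agent.H2.FormalQ.tr

variable {A : Type u} [CommRing A] {X : Scheme.{u}} [X.Over (Spec (CommRingCat.of A))]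
  {I : Ideal A} {F G H : ℕᵒᵖ ⥤ X.Modules}

/-- the shift `n ↦ c + n`. -/
abbrev sh (c : ℕ) : ℕ → ℕ := fun n => c + n

lemma sh_mono (c : ℕ) : Monotone (sh c) := fun _ _ h => Nat.add_le_add_left h c

/-- descent of a compatible family `H_{c+n} ⟶ K_n` to a morphism of systems `H ⟶ K`. -/
theorem existsUnique_desc (hH : Formal.IsCohFormal I H) {K : ℕᵒᵖ ⥤ X.Modules}
    (hK : ∀ n, Formal.KilledBy (I ^ (n + 1)) (K.obj (op n))) (c : ℕ)
    (φ : ∀ n, H.obj (op (c + n)) ⟶ K.obj (op n))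
    (hφ : ∀ (n k : ℕ) (h : n ≤ k),
      trQ H (Nat.add_le_add_left h c) ≫ φ n = φ k ≫ K.map (homOfLE h).op) :
    ∃! δ : H ⟶ K, ∀ n, trQ H (Nat.le_add_left n c) ≫ δ.app (op n) = φ n := by
  have hQ : ∀ n, IsQ (I ^ (n + 1)) (trQ H (Nat.le_add_left n c)) := fun n => isQ_tr hH _
  haveI : ∀ n, Epi (trQ H (Nat.le_add_left n c)) := fun n => (hQ n).epi
  choose b hb using fun n => (hQ n).exists_desc (hK n) (φ n)
  have hnat : ∀ (n k : ℕ) (hnk : n ≤ k),
      H.map (homOfLE hnk).op ≫ b n = b k ≫ K.map (homOfLE hnk).op := by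
    intro n k hnk
    rw [← cancel_epi (trQ H (Nat.le_add_left k c))]
    have h1 : trQ H (Nat.le_add_left k c) ≫ H.map (homOfLE hnk).op =
        trQ H (Nat.add_le_add_left hnk c) ≫ trQ H (Nat.le_add_left n c) := by
      change trQ H (Nat.le_add_left k c) ≫ trQ H hnk = _
      rw [tr_comp, tr_comp]
    rw [← Category.assoc, h1, Category.assoc, hb n, hφ n k hnk, ← Category.assoc, hb k]
  refine ⟨natTransOfTr b hnat, fun n => hb n, ?_⟩
  intro δ' hδ'
  apply NatTrans.ext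
  funext n
  obtain ⟨n⟩ := n
  change δ'.app (op n) = b n
  rw [← cancel_epi (trQ H (Nat.le_add_left n c)), hb n, hδ' n]

section desc
variable (hF : Formal.IsCohFormal I F) {Z : ℕᵒᵖ ⥤ X.Modules} (i : Z ⟶ F) (c : ℕ)

include hF in
lemma exists_κapp (n : ℕ) : ∃ g : (qSys I (sh_mono c) Z).obj (op n) ⟶ F.obj (op n),
    qπ I (sh_mono c) Z n ≫ g = i.app (op (sh c n)) ≫ trQ F (Nat.le_add_left n c) :=
  (isQ_qπ I (sh_mono c) Z n).exists_desc (hF.2.1 n) _

/-- the components of the map `(Z_{c+n} / I^(n+1))_n ⟶ F`. -/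
noncomputable def κapp (n : ℕ) : (qSys I (sh_mono c) Z).obj (op n) ⟶ F.obj (op n) :=
  (exists_κapp hF i c n).choose

lemma qπ_κapp (n : ℕ) :
    qπ I (sh_mono c) Z n ≫ κapp hF i c n =
      i.app (op (sh c n)) ≫ trQ F (Nat.le_add_left n c) :=
  (exists_κapp hF i c n).choose_spec

lemma κapp_nat (n k : ℕ) (hnk : n ≤ k) :
    (qSys I (sh_mono c) Z).map (homOfLE hnk).op ≫ κapp hF i c n =
      κapp hF i c k ≫ F.map (homOfLE hnk).op := by
  have h1 : trQ Z (sh_mono c hnk) ≫ i.app (op (sh c n)) =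
      i.app (op (sh c k)) ≫ trQ F (sh_mono c hnk) := i.naturality _
  have h2 : trQ F (Nat.le_add_left k c) ≫ F.map (homOfLE hnk).op =
      trQ F (sh_mono c hnk) ≫ trQ F (Nat.le_add_left n c) := by
    change trQ F (Nat.le_add_left k c) ≫ trQ F hnk = _
    rw [tr_comp, tr_comp]
  rw [← cancel_epi (qπ I (sh_mono c) Z k), qπ_map_assoc, qπ_κapp,
    ← Category.assoc (qπ I (sh_mono c) Z k), qπ_κapp, Category.assoc,
    ← Category.assoc (trQ Z (sh_mono c hnk)), h1, Category.assoc, h2]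

/-- the map `(Z_{c+n} / I^(n+1))_n ⟶ F`. -/
noncomputable def κ : qSys I (sh_mono c) Z ⟶ F :=
  natTransOfTr (κapp hF i c) (κapp_nat hF i c)

lemma κ_app (n : ℕ) : (κ hF i c).app (op n) = κapp hF i c n := rfl

lemma κ_comp (β : F ⟶ G) (h : i ≫ β = 0) : κ hF i c ≫ β = 0 := by
  apply NatTrans.ext
  funext n
  obtain ⟨n⟩ := n
  change κapp hF i c n ≫ β.app (op n) = 0
  have h1 : trQ F (Nat.le_add_left n c) ≫ β.app (op n) =
      β.app (op (sh c n)) ≫ trQ G (Nat.le_add_left n c) := β.naturality _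
  have h2 : i.app (op (sh c n)) ≫ β.app (op (sh c n)) = 0 :=
    congrArg (fun t : Z ⟶ G => t.app (op (sh c n))) h
  rw [← cancel_epi (qπ I (sh_mono c) Z n), comp_zero, ← Category.assoc, qπ_κapp, Category.assoc,
    h1, ← Category.assoc, h2, zero_comp]

/-- `κ` is a pro-monomorphism when `i` is a termwise monomorphism. -/
lemma κ_proMono (hi : ∀ n, Mono (i.app (op n))) {W : X.Modules} {n N : ℕ} (hN : c + n ≤ N)
    (x : W ⟶ (qSys I (sh_mono c) Z).obj (op N)) (hx : x ≫ κapp hF i c N = 0) :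
    x ≫ (qSys I (sh_mono c) Z).map (homOfLE ((Nat.le_add_left n c).trans hN)).op = 0 := by
  haveI := hi N
  haveI : Epi (pullback.fst x (qπ I (sh_mono c) Z N)) := Abelian.epi_pullback_of_epi_g _ _
  have hc : pullback.fst x (qπ I (sh_mono c) Z N) ≫ x =
      pullback.snd x (qπ I (sh_mono c) Z N) ≫ qπ I (sh_mono c) Z N := pullback.condition
  have h1 : pullback.snd x (qπ I (sh_mono c) Z N) ≫ i.app (op (sh c N)) ≫
      trQ F (Nat.le_add_left N c) = 0 := by
    rw [← qπ_κapp hF i c N, ← Category.assoc, ← hc, Category.assoc, hx, comp_zero]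
  have h2 : pullback.snd x (qπ I (sh_mono c) Z N) ≫ trQ Z (Nat.le_add_left N c) = 0 := by
    have hn : trQ Z (Nat.le_add_left N c) ≫ i.app (op N) =
        i.app (op (sh c N)) ≫ trQ F (Nat.le_add_left N c) := i.naturality _
    rw [← cancel_mono (i.app (op N)), zero_comp, Category.assoc, hn]
    exact h1
  have h3 : trQ Z (sh_mono c ((Nat.le_add_left n c).trans hN)) =
      trQ Z (Nat.le_add_left N c) ≫ trQ Z hN := by
    rw [tr_comp]
  rw [← cancel_epi (pullback.fst x (qπ I (sh_mono c) Z N)), comp_zero, ← Category.assoc, hc,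
    Category.assoc, qπ_map, h3, ← Category.assoc, ← Category.assoc, h2, zero_comp, zero_comp]

/-- lifting morphisms `H ⟶ Z` to `H ⟶ (Z_{c+n} / I^(n+1))_n`. -/
theorem exists_lift (hH : Formal.IsCohFormal I H) (γ' : H ⟶ Z) :
    ∃ δ : H ⟶ qSys I (sh_mono c) Z, δ ≫ κ hF i c = γ' ≫ i ∧
      ((∀ n, Epi (γ'.app (op n))) → ∀ n, Epi (δ.app (op n))) := by
  have hK : ∀ n, Formal.KilledBy (I ^ (n + 1)) ((qSys I (sh_mono c) Z).obj (op n)) :=
    fun n => killedBy_modPow I (n + 1) _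
  obtain ⟨δ, hδ, -⟩ := existsUnique_desc hH hK c
    (fun n => γ'.app (op (sh c n)) ≫ qπ I (sh_mono c) Z n) (by
      intro n k h
      change trQ H (Nat.add_le_add_left h c) ≫ γ'.app (op (sh c n)) ≫ qπ I (sh_mono c) Z n =
        (γ'.app (op (sh c k)) ≫ qπ I (sh_mono c) Z k) ≫
          (qSys I (sh_mono c) Z).map (homOfLE h).op
      have h1 : trQ H (Nat.add_le_add_left h c) ≫ γ'.app (op (sh c n)) =
          γ'.app (op (sh c k)) ≫ trQ Z (sh_mono c h) := γ'.naturality _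
      rw [Category.assoc, qπ_map, ← Category.assoc, h1, Category.assoc])
  have hδ' : ∀ n, trQ H (Nat.le_add_left n c) ≫ δ.app (op n) =
      γ'.app (op (sh c n)) ≫ qπ I (sh_mono c) Z n := hδ
  refine ⟨δ, ?_, fun hepi n => ?_⟩
  · apply NatTrans.ext
    funext n
    obtain ⟨n⟩ := n
    haveI : Epi (trQ H (Nat.le_add_left n c)) := (isQ_tr hH _).epi
    change δ.app (op n) ≫ κapp hF i c n = γ'.app (op n) ≫ i.app (op n)
    have h1 : trQ H (Nat.le_add_left n c) ≫ γ'.app (op n) =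
        γ'.app (op (sh c n)) ≫ trQ Z (Nat.le_add_left n c) := γ'.naturality _
    have h2 : trQ Z (Nat.le_add_left n c) ≫ i.app (op n) =
        i.app (op (sh c n)) ≫ trQ F (Nat.le_add_left n c) := i.naturality _
    rw [← cancel_epi (trQ H (Nat.le_add_left n c)), ← Category.assoc, hδ' n, Category.assoc,
      qπ_κapp, ← Category.assoc (trQ H (Nat.le_add_left n c)), h1, Category.assoc, h2]
  · haveI := hepi (sh c n)
    haveI : Epi (trQ H (Nat.le_add_left n c) ≫ δ.app (op n)) := by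
      rw [hδ' n]; exact epi_comp _ _
    exact epi_of_epi (trQ H (Nat.le_add_left n c)) (δ.app (op n))

/-- `κ` is a monomorphism with respect to coherent formal modules. -/
theorem lift_unique (hi : ∀ n, Mono (i.app (op n))) (hH : Formal.IsCohFormal I H)
    (δ δ' : H ⟶ qSys I (sh_mono c) Z) (h : δ ≫ κ hF i c = δ' ≫ κ hF i c) : δ = δ' := by
  apply NatTrans.ext
  funext n
  obtain ⟨n⟩ := n
  have hle : n ≤ c + n := Nat.le_add_left n c
  haveI : Epi (trQ H hle) := (isQ_tr hH hle).epi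
  have hx : (δ.app (op (c + n)) - δ'.app (op (c + n))) ≫ κapp hF i c (c + n) = 0 := by
    rw [Preadditive.sub_comp, sub_eq_zero]
    exact congrArg (fun t => t.app (op (c + n))) h
  have h0 := κ_proMono hF i c hi (le_refl (c + n)) _ hx
  rw [Preadditive.sub_comp, sub_eq_zero] at h0
  have e1 : trQ H hle ≫ δ.app (op n) =
      δ.app (op (c + n)) ≫ (qSys I (sh_mono c) Z).map (homOfLE hle).op := δ.naturality _
  have e2 : trQ H hle ≫ δ'.app (op n) =
      δ'.app (op (c + n)) ≫ (qSys I (sh_mono c) Z).map (homOfLE hle).op := δ'.naturality _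
  rw [← cancel_epi (trQ H hle), e1, e2]
  exact h0

end desc

/-- the quotient system of the system of kernels is a coherent formal module, past the Artin–Rees
constant. -/
theorem isCohFormal_Ksys [IsLocallyNoetherian X] (hF : Formal.IsCohFormal I F)
    (hG : Formal.IsCohFormal I G) (β : F ⟶ G) (hβ : ∀ n, Epi (β.app (op n))) {k₁ c : ℕ}
    (hAR : ∀ m k, k₁ + m ≤ k →
      fK hF hG β k ≫ Formal.modPowπ I m (kernel (β.app (op (k + 1)))) = 0)
    (hc : k₁ + 1 ≤ c) : Formal.IsCohFormal I (qSys I (sh_mono c) (kerSys β)) := by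
  have hcoh : ∀ j, Coh.IsCoh ((kerSys β).obj (op j)) :=
    fun j => QC.isCoh_kernel _ (hF.1 j) (hG.1 j)
  refine ⟨fun n => isCoh_modPow I (n + 1) (hcoh (c + n)), fun n => killedBy_modPow I (n + 1) _,
    fun n => ?_⟩
  change IsQ (I ^ (n + 1)) (qT I (sh_mono c) (kerSys β) (Nat.le_succ n))
  refine isQ_of_comp (isQ_modPowπ I (n + 1 + 1) ((kerSys β).obj (op (sh c (n + 1))))) ?_
  rw [π_qT]
  haveI := hβ (c + n + 1)
  have hS := kerSys_shortExact hF hG β (c + n)
  haveI := hS.mono_f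
  let t : kernel (β.app (op (c + n + 1))) ⟶ kernel (β.app (op (c + n))) := tr (kerSys β) (c + n)
  haveI : Epi t := hS.epi_g
  have ht : kernel.ι t ≫
      cokernel.π (Formal.smulFamily (I ^ (n + 1)) (kernel (β.app (op (c + n + 1))))) = 0 := by
    have hkt : kernel.ι t ≫ (kerComplex (grComplexMap hF hG β (c + n))).g = 0 :=
      kernel.condition t
    obtain ⟨l, hl⟩ : ∃ l : kernel t ⟶ kernel (grMap (I := I) β (c + n)),
        l ≫ fK hF hG β (c + n) = kernel.ι t :=
      ⟨hS.exact.lift (kernel.ι t) hkt, hS.exact.lift_f _ _⟩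
    rw [← hl, Category.assoc]
    exact (congrArg (fun z => l ≫ z) (hAR (n + 1) (c + n) (by omega))).trans comp_zero
  exact isQ_comp_of_kernel t ht (isQ_modPowπ I (n + 1) (kernel (β.app (op (c + n)))))

/-- **the kernel of a termwise epimorphism of coherent formal modules.** -/
theorem exists_kernel_of_epi [IsLocallyNoetherian X] [CompactSpace X] {s : ℕ} (a : Fin s → A)
    (ha : Ideal.span (Set.range a) = I) (hF : Formal.IsCohFormal I F)
    (hG : Formal.IsCohFormal I G) (β : F ⟶ G) (hβ : ∀ n, Epi (β.app (op n))) :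
    ∃ (K : ℕᵒᵖ ⥤ X.Modules) (κ : K ⟶ F), Formal.IsCohFormal I K ∧ κ ≫ β = 0 ∧
      (∀ (H : ℕᵒᵖ ⥤ X.Modules), Formal.IsCohFormal I H → ∀ γ' : H ⟶ kerSys β,
        ∃ δ : H ⟶ K, δ ≫ κ = γ' ≫ kerSysι β ∧
          ((∀ n, Epi (γ'.app (op n))) → ∀ n, Epi (δ.app (op n)))) ∧
      (∀ (H : ℕᵒᵖ ⥤ X.Modules), Formal.IsCohFormal I H → ∀ δ δ' : H ⟶ K,
        δ ≫ κ = δ' ≫ κ → δ = δ') := by
  obtain ⟨k₁, hAR⟩ := exists_AR a ha hF hG β hβ
  refine ⟨qSys I (sh_mono (k₁ + 1)) (kerSys β), κ hF (kerSysι β) (k₁ + 1),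
    isCohFormal_Ksys hF hG β hβ hAR le_rfl, κ_comp hF (kerSysι β) (k₁ + 1) β (kerSysι_comp β),
    fun H hH γ' => exists_lift hF (kerSysι β) (k₁ + 1) hH γ',
    fun H hH δ δ' h => lift_unique hF (kerSysι β) (k₁ + 1)
      (fun n => inferInstanceAs (Mono (kernel.ι (β.app (op n))))) hH δ δ' h⟩

end Groth.Agent.LD.FK
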